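import Cfsg.Agent.MK.T.C
import Cfsg.Agent.CharactersDeep.ElemExt

/-!
# MK, tools for the small rows: central extensions (helper11)

* `k0_three`, `sm_of_three`, `CycN`, `kk_norm`, `sm_of_kk`, `sm_of_k0` : triple covers;
* `inn_of_no`, `inn_of_aut`, `inn_of_inv`, `inn_of_pow` : the outer automorphisms move the centre.
-/

set_option autoImplicit false

namespace Cfsg.Agent.MK.T

open Cfsg Subgroup Cfsg.Agent.ODD.Red Cfsg.Agent.Characters Cfsg.Agent.Characters.Core Cfsg.Agent.QTNorm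
open scoped ComplexConjugate commutatorElement

variable {X S : Type} [Group X] [Group S] [Finite X]

theorem oi_conj {χ : X → ℂ} (h : OI X χ) : OI X fun x => conj (χ x) :=
  ⟨isIrr_conj h.1, by
    rw [charDegree_congr (ψ := χ) (by rw [apply_one (isIrr_isCharacter h.1), Complex.conj_natCast])]
    exact h.2⟩

theorem kk_star (K Z : Subgroup X) (l : X → ℂ) : kk K Z (fun x => conj (l x)) = kk K Z l :=
  Nat.card_congr
    { toFun := fun ψ => ⟨fun x => conj (ψ.1 x), oi_conj ψ.2.1, fun h hh => by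
        beta_reduce
        rw [ψ.2.2 h hh, map_mul, Complex.conj_conj]⟩
      invFun := fun ψ => ⟨fun x => conj (ψ.1 x), oi_conj ψ.2.1, fun h hh => by
        beta_reduce
        rw [ψ.2.2 h hh, map_mul]⟩
      left_inv := fun ψ => Subtype.ext (funext fun x => Complex.conj_conj _)
      right_inv := fun ψ => Subtype.ext (funext fun x => Complex.conj_conj _) }

omit [Finite X] in
theorem oi_lin_mul (μ : X →* ℂˣ) {χ : X → ℂ} (h : OI X χ) : OI X fun x => (μ x : ℂ) * χ x :=
  ⟨isIrr_lin_mul μ h.1, by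
    rw [charDegree_congr (ψ := χ) (by rw [map_one, Units.val_one, one_mul])]
    exact h.2⟩

omit [Finite X] in
/-- twisting by a linear character -/
theorem kk_twist (K Z : Subgroup X) (μ : K →* ℂˣ) {l : X → ℂ} (h : ∀ z : K, (z : X) ∈ Z → l z = μ z) :
    kk K Z l = kk K Z fun _ => 1 :=
  Nat.card_congr
    { toFun := fun ψ => ⟨fun x => (μ⁻¹ x : ℂ) * ψ.1 x, oi_lin_mul _ ψ.2.1, fun z hz => by
        beta_reduce
        rw [ψ.2.2 z hz, h z hz]
        simp⟩
      invFun := fun ψ => ⟨fun x => (μ x : ℂ) * ψ.1 x, oi_lin_mul _ ψ.2.1, fun z hz => by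
        beta_reduce
        rw [ψ.2.2 z hz, h z hz]
        simp⟩
      left_inv := fun ψ => Subtype.ext (funext fun x => by simp)
      right_inv := fun ψ => Subtype.ext (funext fun x => by simp) }

theorem kk_one (φ : X →* S) (K : Subgroup X) : kk K φ.ker (fun _ => 1) = k0 (K.map φ) := by
  rw [← kk_bot (K.map φ) (l := fun _ => 1) rfl]
  exact (kk_map (H := K) (Z := φ.ker) (Z' := ⊥) (l := fun _ => 1) (l' := fun _ => 1) φ
    (fun _ _ => mem_bot.trans MonoidHom.mem_ker.symm) fun _ _ _ => rfl).symm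

/-- every irreducible character has a central character -/
theorem exists_cc {K Z : Subgroup X} (hZK : Z ≤ K) (hZ : Z ≤ center X) {ψ : K → ℂ} (hψ : IsIrrCharacter K ψ) :
    ∃ m : Z →* ℂˣ, ∀ z : Z, ψ (inclusion hZK z) = m z * ψ 1 := by
  classical
  have h0 := isIrr_apply_one_ne_zero hψ
  obtain ⟨m, hm⟩ := exists_hom (l := fun x => if h : x ∈ K then ψ ⟨x, h⟩ / ψ 1 else 0) hZK
    (fun z hz x _ => mem_center_iff.1 (hZ hz) x) hψ fun h _ => by
      beta_reduce
      rw [dif_pos h.2, div_mul_cancel₀ _ h0]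
  refine ⟨m, fun z => ?_⟩
  rw [← hm, dif_pos (hZK z.2), div_mul_cancel₀ _ h0]
  rfl

/-- linear characters which are trivial on the commutators extend -/
theorem exists_ext (K : Subgroup X) (c : K →* ℂˣ) (h : ∀ z : K, (z : X) ∈ _root_.commutator X → c z = 1) :
    ∃ μ : X →* ℂˣ, ∀ z : K, μ z = c z := by
  let f : K →* Abelianization X := Abelianization.of.comp K.subtype
  have hk : f.rangeRestrict.ker ≤ c.ker := by
    intro z hz
    rw [MonoidHom.ker_rangeRestrict, MonoidHom.mem_ker] at hz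
    exact h z ((QuotientGroup.eq_one_iff _).1 hz)
  have : Finite (Abelianization X) := Finite.of_surjective _ (QuotientGroup.mk_surjective (s := _root_.commutator X))
  obtain ⟨μ, hμ⟩ := CharactersDeep.ElemExt.exists_ext_of_injective (A := Abelianization X) mul_comm f.range.subtype
    f.range.subtype_injective (f.rangeRestrict.liftOfSurjective f.rangeRestrict_surjective ⟨c, hk⟩)
  refine ⟨μ.comp Abelianization.of, fun z => ?_⟩
  have h4 := hμ (f.rangeRestrict z)
  rw [MonoidHom.liftOfRightInverse_comp_apply] at h4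
  exact h4

/-- the normaliser of a Sylow `2`-subgroup is cyclic modulo the Sylow subgroup -/
def CycN (S : Type) [Group S] : Prop :=
  ∃ (T : Sylow 2 S) (w : S), w ∈ normalizer ((T : Subgroup S) : Set S) ∧
    ∀ g ∈ normalizer ((T : Subgroup S) : Set S), ∃ q ∈ (T : Subgroup S), ∃ k : ℕ, g = q * w ^ k

theorem CycN.of_selfN (h : SelfN S) : CycN S :=
  ⟨default, 1, one_mem _, fun g hg => ⟨g, h _ hg, 0, by rw [pow_zero, mul_one]⟩⟩

theorem CycN.of_prime (T : Sylow 2 X)
    (h : ((T : Subgroup X).relIndex (normalizer ((T : Subgroup X) : Set X))).Prime) : CycN X := by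
  have := Fact.mk h
  have : ((T : Subgroup X).subgroupOf (normalizer ((T : Subgroup X) : Set X))).Normal := normal_in_normalizer
  have h1 : IsCyclic (normalizer ((T : Subgroup X) : Set X) ⧸
      (T : Subgroup X).subgroupOf (normalizer ((T : Subgroup X) : Set X))) := isCyclic_of_prime_card (p := (T : Subgroup X).relIndex (normalizer ((T : Subgroup X) : Set X))) rfl
  obtain ⟨w, hw⟩ := h1.exists_monoid_generator
  obtain ⟨w, rfl⟩ := QuotientGroup.mk_surjective w
  refine ⟨T, w, w.2, fun g hg => ?_⟩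
  obtain ⟨k, hk⟩ := hw (QuotientGroup.mk ⟨g, hg⟩)
  refine ⟨g * ((w : X) ^ k)⁻¹, ?_, k, by rw [inv_mul_cancel_right]⟩
  have h2 := QuotientGroup.eq_iff_div_mem.1 (hk.symm.trans (QuotientGroup.mk_pow _ w k).symm)
  rw [div_eq_mul_inv] at h2
  exact h2

theorem card_three {A : Type} [Group A] (h : Nat.card A = 3) {m : A} (hm : m ≠ 1) (a : A) :
    a = 1 ∨ a = m ∨ a = m⁻¹ := by
  have : Fact (Nat.Prime 3) := ⟨Nat.prime_three⟩
  obtain ⟨k, rfl⟩ := mem_powers_of_prime_card h (g' := a) hm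
  have h9 : m ^ 3 = 1 := h ▸ pow_card_eq_one'
  beta_reduce
  rw [← Nat.div_add_mod k 3, pow_add, pow_mul, h9, one_pow, one_mul]
  have h10 : k % 3 = 0 ∨ k % 3 = 1 ∨ k % 3 = 2 := by omega
  rcases h10 with e | e | e <;> rw [e]
  · exact Or.inl (pow_zero m)
  · exact Or.inr (Or.inl (pow_one m))
  · exact Or.inr (Or.inr (eq_inv_of_mul_eq_one_left (by rw [← pow_succ, h9])))

theorem card_or {A : Type} {p q : A → Prop} [Finite {a // p a}] [Finite {a // q a}] (h : ∀ a, p a → q a → False) :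
    Nat.card {a // p a ∨ q a} = Nat.card {a // p a} + Nat.card {a // q a} := by
  classical
  rw [← Nat.card_sum]
  exact Nat.card_congr (subtypeOrEquiv _ _ (Pi.disjoint_iff.2 fun a => Prop.disjoint_iff.2 fun e => h a e.1 e.2))

section three

variable (φ : X →* S) (hφ : Function.Surjective φ) (hk : φ.ker = center X)

include hk in
theorem k0_three (h3 : Nat.card (center X) = 3) {K : Subgroup X} (hK : center X ≤ K) {l : X → ℂ}
    (hl : Fa (center X) l) (m : center X →* ℂˣ) (hm : ∀ z : center X, l z = m z) :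
    k0 K = k0 (K.map φ) + 2 * kk K (center X) l := by
  classical
  have : Fact (Nat.Prime 3) := ⟨Nat.prime_three⟩
  have h4 : Nat.card (center X →* ℂˣ) = 3 := by rw [← ab_eq_card, ab_comm mul_comm', h3]
  obtain ⟨z, hz⟩ : ∃ z : center X, z ≠ 1 :=
    have := Finite.one_lt_card_iff_nontrivial.1 (h3 ▸ (by norm_num : 1 < 3))
    exists_ne 1
  have h5 : m z ≠ 1 := fun e => hz (Subtype.ext (hl z z.2 (by rw [hm, e, Units.val_one])))
  have h6 : m z ^ 3 = 1 := by rw [← map_pow, ← h3, pow_card_eq_one', map_one]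
  have h7 : m z ≠ (m z)⁻¹ := fun e => h5 (by
    rw [← h6, pow_succ, pow_two]
    nth_rewrite 3 [e]
    rw [mul_inv_cancel, one_mul])
  have h8 : ∀ a : center X →* ℂˣ, a = 1 ∨ a = m ∨ a = m⁻¹ := fun a => by
    exact card_three h4 (fun e => h5 (by rw [e]; rfl)) a
  have hm' : ∀ z : center X, conj (l z) = ((m z)⁻¹ : ℂˣ) := fun z => by
    rw [hm, Units.val_inv_eq_inv_val, Complex.inv_eq_conj (Linear.norm_hom_apply m z)]
  have ne : ∀ {ψ : K → ℂ} {a b : X → ℂ} {u v : ℂˣ}, OI K ψ → Ov K (center X) a ψ → Ov K (center X) b ψ → a z = u →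
      b z = v → u = v := fun h1 h2 h3 h4 h5 => Units.ext (mul_right_cancel₀ h1.one_ne
    (by rw [← h4, ← h5]; exact (h2 ⟨z, hK z.2⟩ z.2).symm.trans (h3 ⟨z, hK z.2⟩ z.2)))
  have f2 : ∀ a : X → ℂ, Finite {ψ : K → ℂ // OI K ψ ∧ Ov K (center X) a ψ} := fun a => finite_oi _
  have f1 := finite_oi' (G := K)
  have f3 : Finite {ψ : K → ℂ // (OI K ψ ∧ Ov K (center X) l ψ) ∨ OI K ψ ∧ Ov K (center X) (fun x => conj (l x)) ψ} :=
    Finite.of_injective (fun ψ => (⟨ψ.1, ψ.2.elim And.left And.left⟩ : {ψ : K → ℂ // OI K ψ})) fun _ _ e =>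
      Subtype.ext (congrArg (fun ψ : {ψ : K → ℂ // OI K ψ} => ψ.1) e)
  rw [← kk_one, hk, two_mul]
  nth_rewrite 2 [← kk_star K _ l]
  rw [k0, kk, kk, kk, ← card_or fun ψ h1 h2 => h7 (ne h1.1 h1.2 h2.2 (hm z) (hm' z)), ← card_or]
  · refine Nat.card_congr (Equiv.subtypeEquivRight fun ψ => ⟨fun h => ?_, fun h => h.elim And.left (·.elim And.left And.left)⟩)
    obtain ⟨a, ha⟩ := exists_cc hK le_rfl h.1
    rcases h8 a with rfl | rfl | rfl
    · exact Or.inl ⟨h, fun y hy => ha ⟨y, hy⟩⟩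
    · exact Or.inr (Or.inl ⟨h, fun y hy => (hm ⟨y, hy⟩).symm ▸ ha ⟨y, hy⟩⟩)
    · exact Or.inr (Or.inr ⟨h, fun y hy => (ha ⟨y, hy⟩).trans (congrArg (· * ψ 1) (hm' ⟨y, hy⟩).symm)⟩)
  · rintro ψ h1 (h2 | h2)
    · exact h5 (ne h1.1 h2.2 h1.2 (hm z) rfl)
    · exact h5 (inv_eq_one.1 (ne h1.1 h2.2 h1.2 (hm' z) rfl))

include hφ hk

/-- **triple covers** -/
theorem sm_of_three (h3 : Nat.card (center X) = 3)
    (hi : ∀ α : MulAut X, (∀ z ∈ center X, α z = z) → ∃ x, α = MulAut.conj x) (h1 : M0 X) (h2 : M0 S) : Sm X := by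
  have := two_prime
  refine sm_of_inn hi default fun l hl => kk_eq_of_hom le_rfl le_top (center_le_normalizer _) fun m hm => ?_
  have h4 := k0_three φ hk h3 le_top hl m hm
  have h5 := k0_three φ hk h3 (center_le_normalizer (((default : Sylow 2 X) : Subgroup X) : Set X)) hl m hm
  rw [← h1, map_normalizer φ hφ, ← show k0 S = k0 (normalizer ((((default : Sylow 2 X) : Subgroup X).map φ : Subgroup S) : Set S)) from
    h2 ((default : Sylow 2 X).mapSurjective hφ)] at h5
  rw [k0_congr topEquiv, map_top_of_surjective φ hφ, k0_congr (topEquiv (G := S))] at h4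
  omega

/-- the count for the normaliser -/
theorem kk_norm (ho : Odd (Nat.card (center X))) (hc : CycN S) : ∃ Q : Sylow 2 X, ∀ (l : X → ℂ) (m : center X →* ℂˣ),
    (∀ z : center X, l z = m z) → kk (normalizer ((Q : Subgroup X) : Set X)) (center X) l =
      k0 (normalizer (((Q : Subgroup X).map φ : Subgroup S) : Set S)) := by
  have := two_prime
  have : Finite S := Finite.of_surjective φ hφ
  obtain ⟨T, w, hw, hT⟩ := hc
  obtain ⟨Q, rfl⟩ := Sylow.mapSurjective_surjective hφ 2 T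
  refine ⟨Q, fun l m hm => ?_⟩
  rw [Sylow.coe_mapSurjective, ← map_normalizer φ hφ] at hw hT
  obtain ⟨w, hw, rfl⟩ := hw
  let N := normalizer ((Q : Subgroup X) : Set X)
  have : ((Q : Subgroup X).subgroupOf N).Normal := normal_in_normalizer
  let f := QuotientGroup.mk' ((Q : Subgroup X).subgroupOf N)
  have h1 : ∀ a : N, ∃ (k : ℕ) (z : N), (∀ y, y * z = z * y) ∧ f a = z * f ⟨w, hw⟩ ^ k := fun a => by
    obtain ⟨_, ⟨q, hq, rfl⟩, k, h2⟩ := hT _ (mem_map_of_mem φ a.2)
    have h3 : (a : X) * (q * w ^ k)⁻¹ ∈ center X := by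
      rw [← hk, MonoidHom.mem_ker, map_mul, map_inv, map_mul, map_pow, h2, mul_inv_cancel]
    refine ⟨k, ⟨_, center_le_normalizer _ h3⟩, fun y => Subtype.ext (mem_center_iff.1 h3 y), ?_⟩
    rw [← one_mul (f _ ^ k), ← show f ⟨q, le_normalizer hq⟩ = 1 from (QuotientGroup.eq_one_iff _).2 hq, ← map_pow,
      ← map_mul]
    exact congrArg f (Subtype.ext (inv_mul_cancel_right (a : X) (q * w ^ k)).symm)
  have h2 : _root_.commutator N ≤ (Q : Subgroup X).subgroupOf N := commutator_le.2 fun a _ b _ => by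
    rw [← QuotientGroup.eq_one_iff]
    change f ⁅a, b⁆ = 1
    obtain ⟨i, y, h3, h4⟩ := h1 a
    obtain ⟨j, z, h5, h6⟩ := h1 b
    have h7 : ∀ {z : N}, (∀ y, y * z = z * y) → ∀ u, Commute u (z : N ⧸ (Q : Subgroup X).subgroupOf N) :=
      fun h u => by
        obtain ⟨u, rfl⟩ := QuotientGroup.mk_surjective u
        exact congrArg f (h u)
    rw [map_commutatorElement, commutatorElement_eq_one_iff_commute, h4, h6]
    exact (h7 h5 _).mul_right ((h7 h3 _).symm.mul_left (Commute.pow_pow_self _ _ _))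
  obtain ⟨k, hQ⟩ := Q.isPGroup'.exists_card_eq
  have h3 := disjoint_of_coprime_natCard (H := center X) (K := Q) (hQ ▸ (Nat.coprime_two_right.2 ho).pow_right k)
  obtain ⟨μ, hμ⟩ := exists_ext ((center X).subgroupOf N)
    (m.comp (subgroupOfEquivOfLe (center_le_normalizer _)).toMonoidHom) fun z hz => by
      rw [show z = 1 from Subtype.ext (Subtype.ext (disjoint_def.1 h3 z.2 (h2 hz))), map_one]
  rw [kk_twist N _ μ fun z hz => (hm ⟨z, hz⟩).trans (congrArg Units.val (hμ ⟨z, hz⟩).symm), ← hk, kk_one,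
    map_normalizer φ hφ]

/-- **covers**, from the number of the faithful characters -/
theorem sm_of_kk (ho : Odd (Nat.card (center X)))
    (hi : ∀ α : MulAut X, (∀ z ∈ center X, α z = z) → ∃ x, α = MulAut.conj x) (hc : CycN S) (h2 : M0 S)
    (h : ∀ (l : X → ℂ) (m : center X →* ℂˣ), Fa (center X) l → (∀ z : center X, l z = m z) →
      kk ⊤ (center X) l = k0 S) : Sm X := by
  have := two_prime
  obtain ⟨Q, hQ⟩ := kk_norm φ hφ hk ho hc
  refine sm_of_inn hi Q fun l hl => kk_eq_of_hom le_rfl le_top (center_le_normalizer _) fun m hm => ?_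
  rw [h l m hl hm, hQ l m hm]
  exact h2 (Q.mapSurjective hφ)

/-- **triple covers**, from the degrees -/
theorem sm_of_k0 (h3 : Nat.card (center X) = 3)
    (hi : ∀ α : MulAut X, (∀ z ∈ center X, α z = z) → ∃ x, α = MulAut.conj x) (hc : CycN S) (h2 : M0 S)
    (h : k0 X = 3 * k0 S) : Sm X := by
  refine sm_of_kk φ hφ hk (by rw [h3]; decide) hi hc h2 fun l m hl hm => ?_
  have h4 := k0_three φ hk h3 le_top hl m hm
  rw [k0_congr topEquiv, map_top_of_surjective φ hφ, k0_congr (topEquiv (G := S))] at h4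
  omega

/-! ### automorphisms of a cover -/

omit [Finite X] in
theorem exists_ind (α : MulAut X) : ∃ γ : MulAut S, ∀ x, γ (φ x) = φ (α x) := by
  have h1 : ∀ α : MulAut X, φ.ker ≤ (φ.comp α.toMonoidHom).ker := fun α z hz => by
    rw [hk] at hz
    change α z ∈ φ.ker
    rw [hk, mem_center_iff]
    intro g
    obtain ⟨g, rfl⟩ := α.surjective g
    rw [← map_mul, ← map_mul, mem_center_iff.1 hz]
  have h2 : ∀ (α : MulAut X) x, φ.liftOfSurjective hφ ⟨_, h1 α⟩ (φ x) = φ (α x) := fun α x =>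
    φ.liftOfRightInverse_comp_apply _ _ _ x
  refine ⟨MonoidHom.toMulEquiv (φ.liftOfSurjective hφ ⟨_, h1 α⟩) (φ.liftOfSurjective hφ ⟨_, h1 α⁻¹⟩) ?_ ?_, h2 α⟩ <;>
    ext s <;> obtain ⟨x, rfl⟩ := hφ s <;> rw [MonoidHom.comp_apply, h2, h2] <;> simp

open scoped IsMulCommutative in
omit [Finite X] hφ in
theorem eq_one_of_ind (hp : _root_.commutator X = ⊤) {α : MulAut X} (h : ∀ x, φ (α x) = φ x) : α = 1 := by
  have h1 : ∀ x, α x * x⁻¹ ∈ center X := fun x => by
    rw [← hk, MonoidHom.mem_ker, map_mul, map_inv, h, mul_inv_cancel]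
  let f : X →* center X := MonoidHom.mk' (fun x => ⟨_, h1 x⟩) fun a b => Subtype.ext (by
    change α (a * b) * (a * b)⁻¹ = α a * a⁻¹ * (α b * b⁻¹)
    rw [mul_assoc (α a), mem_center_iff.1 (h1 b) a⁻¹, map_mul, mul_inv_rev]
    group)
  ext x
  exact mul_inv_eq_one.1 (congrArg Subtype.val (Abelianization.commutator_subset_ker f (hp ▸ mem_top x)))

variable (hp : _root_.commutator X = ⊤) {β : MulAut S}
  (hβ : ∀ γ : MulAut S, ∃ s, γ = MulAut.conj s ∨ γ = MulAut.conj s * β)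

omit [Finite X]
include hp hβ

theorem inn_of_no (h : ∀ α : MulAut X, (∀ x, φ (α x) = β (φ x)) → ¬ ∀ z ∈ center X, α z = z) (α : MulAut X)
    (hα : ∀ z ∈ center X, α z = z) : ∃ x, α = MulAut.conj x := by
  obtain ⟨γ, hγ⟩ := exists_ind φ hφ hk α
  obtain ⟨s, h1⟩ := hβ γ
  obtain ⟨x, rfl⟩ := hφ s
  have h2 : ∀ y, φ (((MulAut.conj x)⁻¹ * α) y) = (MulAut.conj (φ x))⁻¹ (γ (φ y)) := fun y => by simp [hγ]
  rcases h1 with rfl | rfl
  · exact ⟨x, (inv_mul_eq_one.1 (eq_one_of_ind φ hk hp fun y => by rw [h2, MulAut.inv_apply_self])).symm⟩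
  · refine absurd (fun z hz => ?_) (h ((MulAut.conj x)⁻¹ * α) fun y => by
      rw [h2, MulAut.mul_apply, MulAut.inv_apply_self])
    rw [MulAut.mul_apply, hα z hz, MulAut.conj_inv_apply, mul_assoc, ← mem_center_iff.1 hz x, inv_mul_cancel_left]

/-- a lift of the outer automorphism which moves the centre -/
theorem inn_of_aut (δ : MulAut X) (h1 : ∀ x, φ (δ x) = β (φ x)) (h2 : ¬ ∀ z ∈ center X, δ z = z) :
    ∀ α : MulAut X, (∀ z ∈ center X, α z = z) → ∃ x, α = MulAut.conj x :=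
  inn_of_no φ hφ hk hp hβ fun α h => by
    rwa [mul_inv_eq_one.1 (eq_one_of_ind φ hk hp (α := α * δ⁻¹) fun x => by
      rw [MulAut.mul_apply, h, ← h1, MulAut.apply_inv_self])]

omit hφ hk hp hβ in
theorem comm_pow {a b c : X} (hc : c ∈ center X) (h : a * b = c * (b * a)) (i j : ℕ) :
    a ^ i * b ^ j = c ^ (i * j) * (b ^ j * a ^ i) := by
  have h1 : ∀ {a b c : X}, c ∈ center X → a * b = c * (b * a) → ∀ j : ℕ, a * b ^ j = c ^ j * (b ^ j * a) :=
    fun {a b c} hc h j => by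
      induction j with
      | zero => simp
      | succ j ih =>
        rw [pow_succ b, ← mul_assoc, ih, mul_assoc, mul_assoc, h, ← mul_assoc (b ^ j), mem_center_iff.1 hc, pow_succ]
        simp only [mul_assoc]
  have h2 := h1 (a := b ^ j) (b := a) (inv_mem (pow_mem hc j)) (by rw [h1 hc h, inv_mul_cancel_left]) i
  rw [h2, inv_pow, ← pow_mul, mul_comm j, mul_inv_cancel_left]

/-- **the inversion lemma** -/
theorem inn_of_inv {a b c : X} {i j : ℕ} (ha : β (φ a) = φ a ^ i) (hb : β (φ b) = φ b ^ j) (hc : c ∈ center X)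
    (h : a * b = c * (b * a)) (hn : c ^ (i * j) ≠ c) :
    ∀ α : MulAut X, (∀ z ∈ center X, α z = z) → ∃ x, α = MulAut.conj x :=
  inn_of_no φ hφ hk hp hβ fun α h1 h2 => by
    have h3 : ∀ {a : X} {i : ℕ}, β (φ a) = φ a ^ i → ∃ z ∈ center X, α a = z * a ^ i := fun {a i} ha =>
      ⟨α a * (a ^ i)⁻¹, by rw [← hk, MonoidHom.mem_ker, map_mul, map_inv, h1, ha, map_pow, mul_inv_cancel],
        (inv_mul_cancel_right _ _).symm⟩
    obtain ⟨y, hy, h4⟩ := h3 ha
    obtain ⟨z, hz, h5⟩ := h3 hb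
    have h6 := congrArg α h
    rw [map_mul, map_mul, map_mul, h2 c hc, h4, h5, mul_assoc, ← mul_assoc (a ^ i), mem_center_iff.1 hz, mul_assoc z,
      comm_pow hc h, mul_assoc z, ← mul_assoc (b ^ j), mem_center_iff.1 hy, mul_assoc y, ← mul_assoc z (c ^ _),
      ← mul_assoc y, ← mul_assoc z y, ← mul_assoc c] at h6
    have h7 := mul_right_cancel h6
    rw [← mul_assoc, mem_center_iff.1 hz y, mem_center_iff.1 (pow_mem hc (i * j))] at h7
    exact hn (mul_right_cancel h7)

/-- a power in the centre -/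
theorem inn_of_pow {a : X} {i n : ℕ} (ha : β (φ a) = φ a ^ i) (h0 : ∀ z ∈ center X, z ^ n = 1)
    (hc : a ^ n ∈ center X) (hn : (a ^ n) ^ i ≠ a ^ n) :
    ∀ α : MulAut X, (∀ z ∈ center X, α z = z) → ∃ x, α = MulAut.conj x :=
  inn_of_no φ hφ hk hp hβ fun α h1 h2 => hn (by
    have h3 : α a * (a ^ i)⁻¹ ∈ center X := by
      rw [← hk, MonoidHom.mem_ker, map_mul, map_inv, h1, ha, map_pow, mul_inv_cancel]
    have h4 := h2 _ hc
    rwa [map_pow, ← inv_mul_cancel_right (α a) (a ^ i), (Commute.symm (mem_center_iff.1 h3 _)).mul_pow, h0 _ h3,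
      one_mul, ← pow_mul, mul_comm, pow_mul] at h4)

end three

omit [Finite X] in
theorem out_cases (hi : (MulAut.conj : X →* MulAut X).range.index = 2) {β : MulAut X}
    (hβ : β ∉ (MulAut.conj : X →* MulAut X).range) (γ : MulAut X) :
    ∃ s, γ = MulAut.conj s ∨ γ = MulAut.conj s * β := by
  by_cases h : γ ∈ (MulAut.conj : X →* MulAut X).range
  · exact h.imp fun _ h => Or.inl h.symm
  · obtain ⟨x, hx⟩ : γ * β⁻¹ ∈ (MulAut.conj : X →* MulAut X).range :=
      (mul_mem_iff_of_index_two hi).2 (iff_of_false h fun e => hβ (inv_mem_iff.1 e))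
    exact ⟨x, Or.inr (by rw [hx, inv_mul_cancel_right])⟩

end Cfsg.Agent.MK.T
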