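import Cfsg.Agent.MK.Defs
import Cfsg.Agent.ODD.Red.Bas
import Cfsg.Agent.TAB.Use.Defs
import Cfsg.Agent.H142.McKayCount
import Cfsg.Agent.H261.TI.PChar
import Cfsg.Agent.H649.MonoV
import Cfsg.Agent.QTNorm.SporBase

/-!
# MK, tools for the small rows: the counts (helper11)

* `k0 G`, `f0 α` : the number of irreducible characters of odd degree, and of those fixed by `α`;
* `ab Q = |Q : Q'|`, `a2 G` (for a Sylow `2`-subgroup), `M0 G` (the McKay equality);
* normal subgroups of prime index.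
-/

set_option autoImplicit false

namespace Cfsg.Agent.MK.T

open Cfsg Subgroup Cfsg.Agent.ODD.Red Cfsg.Agent.Characters Cfsg.Agent.Characters.Core Cfsg.Agent.QTNorm
  Cfsg.Agent.TAB.Use Cfsg.Agent.H142.McKayCount

/-- the number of irreducible characters of odd degree -/
noncomputable def k0 (G : Type) [Group G] : ℕ := Nat.card {χ : G → ℂ // OI G χ}

/-- the number of irreducible characters of odd degree which are fixed by `α` -/
noncomputable def f0 {G : Type} [Group G] (α : MulAut G) : ℕ :=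
  Nat.card {χ : G → ℂ // OI G χ ∧ ∀ x, χ (α x) = χ x}

/-- the index of the commutator subgroup -/
noncomputable def ab (Q : Type) [Group Q] : ℕ := (_root_.commutator Q).index

/-- the index of the commutator subgroup of a Sylow `2`-subgroup -/
noncomputable def a2 (G : Type) [Group G] : ℕ := ab ((default : Sylow 2 G) : Subgroup G)

/-- the McKay equality -/
def M0 (G : Type) [Group G] : Prop := ∀ P : Sylow 2 G, k0 G = k0 (normalizer ((P : Subgroup G) : Set G))

variable {G H : Type} [Group G] [Group H]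

theorem two_prime : Fact (Nat.Prime 2) := ⟨Nat.prime_two⟩

theorem oi_comp (f : G →* H) (hf : Function.Surjective f) {χ : H → ℂ} (h : OI H χ) : OI G fun x => χ (f x) :=
  ⟨isIrr_comp' f hf h.1, by
    rw [charDegree_congr (ψ := χ) (by simp only [map_one])]
    exact h.2⟩

theorem oi_equiv (e : G ≃* H) {χ : H → ℂ} (h : OI H χ) : OI G fun x => χ (e x) := oi_comp e.toMonoidHom e.surjective h

theorem finite_oi [Finite G] (p : (G → ℂ) → Prop) : Finite {χ : G → ℂ // OI G χ ∧ p χ} := by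
  have := finite_irr (G := G)
  exact Finite.of_injective (fun χ : {χ : G → ℂ // OI G χ ∧ p χ} => (⟨χ.1, χ.2.1.1⟩ : IrrCharacter G))
    fun a b h => Subtype.ext (congrArg (fun x : IrrCharacter G => x.1) h)

theorem finite_oi' [Finite G] : Finite {χ : G → ℂ // OI G χ} := by
  have := finite_irr (G := G)
  exact Finite.of_injective (fun χ : {χ : G → ℂ // OI G χ} => (⟨χ.1, χ.2.1⟩ : IrrCharacter G))
    fun a b h => Subtype.ext (congrArg (fun x : IrrCharacter G => x.1) h)

/-- transport of a count -/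
theorem card_congr (e : G ≃* H) {p : (G → ℂ) → Prop} {q : (H → ℂ) → Prop}
    (h : ∀ χ : H → ℂ, OI H χ → (p (fun x => χ (e x)) ↔ q χ)) :
    Nat.card {χ : G → ℂ // OI G χ ∧ p χ} = Nat.card {χ : H → ℂ // OI H χ ∧ q χ} := by
  refine Nat.card_congr ⟨fun χ => ⟨fun y => χ.1 (e.symm y), oi_equiv e.symm χ.2.1,
      (h _ (oi_equiv e.symm χ.2.1)).1 (by simpa only [e.symm_apply_apply] using χ.2.2)⟩,
    fun χ => ⟨fun x => χ.1 (e x), oi_equiv e χ.2.1, (h _ χ.2.1).2 χ.2.2⟩, fun χ => ?_, fun χ => ?_⟩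
  · exact Subtype.ext (funext fun x => by simp only [e.symm_apply_apply])
  · exact Subtype.ext (funext fun x => by simp only [e.apply_symm_apply])

theorem k0_eq_of {p : (G → ℂ) → Prop} (h : ∀ χ, OI G χ → p χ) : Nat.card {χ : G → ℂ // OI G χ ∧ p χ} = k0 G :=
  Nat.card_congr (Equiv.subtypeEquivRight fun χ => ⟨fun h1 => h1.1, fun h1 => ⟨h1, h χ h1⟩⟩)

theorem k0_congr (e : G ≃* H) : k0 G = k0 H := by
  rw [← k0_eq_of (p := fun _ => True) fun _ _ => trivial, ← k0_eq_of (p := fun _ => True) fun _ _ => trivial]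
  exact card_congr e fun _ _ => Iff.rfl

theorem f0_congr (e : G ≃* H) {α : MulAut G} {β : MulAut H} (h : ∀ x, e (α x) = β (e x)) : f0 α = f0 β :=
  card_congr e fun χ _ => ⟨fun h1 y => by
    obtain ⟨x, rfl⟩ := e.surjective y
    rw [← h]
    exact h1 x, fun h1 x => (congrArg χ (h x)).trans (h1 _)⟩

theorem f0_eq_of_all {α : MulAut G} (h : ∀ χ, OI G χ → ∀ x, χ (α x) = χ x) : f0 α = k0 G := k0_eq_of h

theorem f0_conj (g : G) : f0 (MulAut.conj g) = k0 G :=
  f0_eq_of_all fun _ h x => isIrr_isClassFunction h.1 x g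

theorem f0_conj_mul (g : G) (α : MulAut G) : f0 (MulAut.conj g * α) = f0 α :=
  Nat.card_congr (Equiv.subtypeEquivRight fun _ => and_congr_right fun h => forall_congr' fun x => by
    rw [MulAut.mul_apply, MulAut.conj_apply, isIrr_isClassFunction h.1])

theorem f0_le [Finite G] (α : MulAut G) : f0 α ≤ k0 G := by
  have := finite_oi' (G := G)
  exact Nat.card_le_card_of_injective (fun χ => ⟨χ.1, χ.2.1⟩) fun a b h => Subtype.ext (congrArg Subtype.val h :)

theorem k0_eq_np : k0 G = np 2 G :=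
  Nat.card_congr ⟨fun χ => ⟨⟨χ.1, χ.2.1⟩, fun h => Nat.not_even_iff_odd.2 χ.2.2 (even_iff_two_dvd.2 h)⟩,
    fun χ => ⟨χ.1.1, χ.1.2, Nat.not_even_iff_odd.1 fun h => χ.2 (even_iff_two_dvd.1 h)⟩, fun _ => rfl, fun _ => rfl⟩

theorem ab_congr (e : G ≃* H) : ab G = ab H := by
  rw [ab, ab, ← index_map_of_bijective (f := e.toMonoidHom) e.bijective, map_commutator_eq,
    MonoidHom.range_eq_top.2 e.surjective, commutator_def]

theorem ab_eq_card [Finite G] : ab G = Nat.card (G →* ℂˣ) := (Linear.card_hom_eq_index_commutator G).symm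

theorem ab_pos [Finite G] : 0 < ab G := Nat.pos_of_ne_zero index_ne_zero_of_finite

theorem k0_two [Finite G] (h : IsPGroup 2 G) : k0 G = ab G := by
  have := two_prime
  rw [k0_eq_np, np_of_isPGroup h, ab]

/-- an abelian normal subgroup of odd index -/
theorem k0_abelian [Finite G] (A : Subgroup G) [A.Normal] (hA : ∀ a ∈ A, ∀ b ∈ A, a * b = b * a)
    (hi : Odd A.index) : k0 G = Nat.card (ConjClasses G) := by
  rw [k0_eq_np, np_eq_card_conjClasses A hA fun h => Nat.not_even_iff_odd.2 hi (even_iff_two_dvd.2 h)]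

theorem ab_sylow [Finite G] (P : Sylow 2 G) : ab (P : Subgroup G) = a2 G := by
  have := two_prime
  exact ab_congr (Sylow.equiv P default)

theorem a2_congr [Finite G] (e : G ≃* H) : a2 G = a2 H := by
  have := two_prime
  have : Finite H := Finite.of_equiv _ e.toEquiv
  rw [← ab_sylow ((default : Sylow 2 G).mapSurjective (f := e.toMonoidHom) e.surjective)]
  exact ab_congr (equivMapOfInjective _ e.toMonoidHom e.injective)

theorem a2_two [Finite G] (h : IsPGroup 2 G) : a2 G = ab G := by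
  rw [← ab_congr topEquiv]
  exact (ab_sylow ⟨⊤, h.to_subgroup ⊤, fun _ h1 => top_le_iff.1 h1⟩).symm

theorem M0.of_one [Finite G] (P : Sylow 2 G) (h : k0 G = k0 (normalizer ((P : Subgroup G) : Set G))) : M0 G := by
  have := two_prime
  intro Q
  rw [h, k0_eq_np, k0_eq_np, np_normalizer_sylow P Q]

theorem k0_normalizer_map (e : G ≃* H) (Q : Subgroup G) :
    k0 (normalizer (Q : Set G)) = k0 (normalizer ((Q.map e.toMonoidHom : Subgroup H) : Set H)) := by
  rw [← map_normalizer_eq_of_bijective Q (f := e.toMonoidHom) e.bijective]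
  exact k0_congr (equivMapOfInjective _ e.toMonoidHom e.injective)

theorem M0.congr [Finite G] (h : M0 G) (e : G ≃* H) : M0 H := by
  have := two_prime
  have : Finite H := Finite.of_equiv _ e.toEquiv
  refine M0.of_one ((default : Sylow 2 G).mapSurjective (f := e.toMonoidHom) e.surjective) ?_
  rw [← k0_congr e, h default]
  exact k0_normalizer_map e _

theorem k0_norm_self [Finite G] (h : SelfN G) (P : Sylow 2 G) :
    k0 (normalizer ((P : Subgroup G) : Set G)) = a2 G := by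
  rw [le_antisymm (h P) le_normalizer, k0_two P.isPGroup', ab_sylow]

theorem m0_iff [Finite G] (h : SelfN G) : M0 G ↔ k0 G = a2 G :=
  ⟨fun h1 => (h1 default).trans (k0_norm_self h _), fun h1 P => h1.trans (k0_norm_self h P).symm⟩

theorem kk_bot (K : Subgroup G) {l : G → ℂ} (hl : l 1 = 1) : kk K ⊥ l = k0 K :=
  k0_eq_of fun ψ _ h hh => by
    obtain rfl : h = 1 := Subtype.ext (mem_bot.1 hh)
    rw [OneMemClass.coe_one, hl, one_mul]

theorem m0_of_mcK (h : McK G ⊥) : M0 G := fun P => by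
  rw [← k0_congr topEquiv, ← kk_bot ⊤ (l := fun _ => 1) rfl, h, kk_bot _ rfl]

theorem _root_.Cfsg.Agent.MK.IH.m0 [Finite G] {n : ℕ} (h : IH n) (hG : Nat.card G < n) : M0 G :=
  m0_of_mcK (h G ⊥ bot_le (by rwa [index_bot]))

theorem _root_.Cfsg.Agent.MK.IH.k0_eq [Finite G] {n : ℕ} (h : IH n) (hG : Nat.card G < n) (hN : SelfN G) :
    k0 G = a2 G := (m0_iff hN).1 (h.m0 hG)

theorem M0.k0_sub [Finite G] {K : Subgroup G} (h : M0 K) (P : Sylow 2 G)
    (hN : normalizer ((P : Subgroup G) : Set G) ≤ K) : k0 K = k0 (normalizer ((P : Subgroup G) : Set G)) := by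
  have h1 : (P : Subgroup G) ≤ K := le_normalizer.trans hN
  rw [h (P.subtype h1), Sylow.coe_subtype, ← subgroupOf_normalizer_eq h1]
  exact k0_congr (subgroupOfEquivOfLe hN)

theorem _root_.Cfsg.Agent.MK.IH.k0_sub [Finite G] {n : ℕ} (h : IH n) {K : Subgroup G} (hK : Nat.card K < n)
    (P : Sylow 2 G) (hN : normalizer ((P : Subgroup G) : Set G) ≤ K) :
    k0 K = k0 (normalizer ((P : Subgroup G) : Set G)) := (h.m0 hK).k0_sub P hN

/-- a proper subgroup which contains the normaliser of a Sylow `2`-subgroup -/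
theorem m0_of_sub [Finite G] {n : ℕ} (h : IH n) (f : H →* G) (hf : Function.Injective f) (hH : Nat.card H < n)
    (P : Sylow 2 G) (hN : normalizer ((P : Subgroup G) : Set G) ≤ f.range) (hk : k0 G = k0 H) : M0 G := by
  have e := MonoidHom.ofInjective hf
  exact M0.of_one P (hk.trans ((k0_congr e).trans (h.k0_sub (Nat.card_congr e.toEquiv ▸ hH) P hN)))

/-! ### tables -/

section enum

variable {n : ℕ} {d : ℕ → ℕ} {χ : ℕ → G → ℂ}

theorem card_enum (hE : Enum G n d χ) {p : (G → ℂ) → Prop} {q : ℕ → Bool}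
    (h : ∀ j < n, Odd (d j) → (p (χ j) ↔ q j = true)) :
    Nat.card {ψ : G → ℂ // OI G ψ ∧ p ψ} = (List.range n).countP fun j => d j % 2 == 1 && q j := by
  have h1 : ∀ j < n, OI G (χ j) ↔ Odd (d j) := fun j hj => by
    rw [OI, charDegree_of (hE.deg j hj)]
    exact and_iff_right (hE.irr j hj)
  have h2 : ∀ j, (j ∈ (Finset.range n).filter fun j => (d j % 2 == 1 && q j) = true) ↔
      j < n ∧ Odd (d j) ∧ q j = true := fun j => by
    rw [Finset.mem_filter, Finset.mem_range, Bool.and_eq_true, beq_iff_eq, Nat.odd_iff]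
  rw [List.countP_eq_length_filter, ← List.toFinset_card_of_nodup (List.nodup_range.filter _), List.toFinset_filter,
    List.toFinset_range, ← Nat.card_eq_finsetCard]
  refine (Nat.card_congr (Equiv.ofBijective (fun j => ⟨χ j.1, (h1 _ ((h2 _).1 j.2).1).2 ((h2 _).1 j.2).2.1,
    (h _ ((h2 _).1 j.2).1 ((h2 _).1 j.2).2.1).2 ((h2 _).1 j.2).2.2⟩) ⟨fun a b hab => ?_, fun ψ => ?_⟩)).symm
  · exact Subtype.ext (hE.inj _ ((h2 _).1 a.2).1 _ ((h2 _).1 b.2).1 (congrArg Subtype.val hab))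
  · obtain ⟨ψ, h3, h4⟩ := ψ
    obtain ⟨j, hj, rfl⟩ := hE.all _ h3.1
    exact ⟨⟨j, (h2 _).2 ⟨hj, (h1 j hj).1 h3, (h j hj ((h1 j hj).1 h3)).1 h4⟩⟩, rfl⟩

theorem k0_enum (hE : Enum G n d χ) : k0 G = (List.range n).countP fun j => d j % 2 == 1 := by
  rw [← k0_eq_of (p := fun _ => True) fun _ _ => trivial, card_enum hE (q := fun _ => true) fun _ _ _ => by simp]
  simp only [Bool.and_true]

/-- `q` marks the fixed characters among those of odd degree -/
theorem f0_enum (hE : Enum G n d χ) {α : MulAut G} {q : ℕ → Bool}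
    (h : ∀ j < n, Odd (d j) → ((∀ x, χ j (α x) = χ j x) ↔ q j = true)) :
    f0 α = (List.range n).countP fun j => d j % 2 == 1 && q j := card_enum hE h

theorem k0_of_degList {L : List ℕ} (h : DegList G L) : k0 G = L.countP fun a => a % 2 == 1 := by
  obtain ⟨χ, hE⟩ := h
  have h1 : (List.range L.length).map (fun j => L.getD j 0) = L :=
    List.ext_getElem (by simp) fun i h1 h2 => by simp [List.getElem?_eq_getElem h2]
  rw [k0_enum hE]
  conv_rhs => rw [← h1, List.countP_map]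
  rfl

/-- an automorphism permutes the characters and keeps the degrees -/
theorem enum_perm (hE : Enum G n d χ) (α : MulAut G) {j : ℕ} (hj : j < n) :
    ∃ i < n, d i = d j ∧ ∀ x, χ j (α x) = χ i x := by
  obtain ⟨i, hi, h⟩ := hE.all _ (isIrr_comp' α.toMonoidHom α.surjective (hE.irr j hj))
  refine ⟨i, hi, ?_, congrFun h⟩
  have h1 := congrFun h 1
  rw [map_one, hE.deg j hj, hE.deg i hi] at h1
  exact_mod_cast h1.symm

/-- a character with a unique degree is fixed -/
theorem enum_fix (hE : Enum G n d χ) (α : MulAut G) {j : ℕ} (hj : j < n) (h : ∀ i < n, d i = d j → i = j) (x : G) :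
    χ j (α x) = χ j x := by
  obtain ⟨i, hi, h1, h2⟩ := enum_perm hE α hj
  rw [h2, h i hi h1]

end enum

/-! ### subgroups of prime index -/

section idx

variable [Finite G] {L : Subgroup G}

/-- `θ` is a constituent of the restriction of `χ` -/
def Con (L : Subgroup G) (χ : G → ℂ) (θ : L → ℂ) : Prop :=
  ∀ [Fintype L], classInner (fun n : L => χ n) θ ≠ 0

/-- **double counting** -/
theorem dc {A' : (G → ℂ) → Prop} {A : (L → ℂ) → Prop} {c : ℕ}
    (h : ∀ χ θ, IsIrrCharacter G χ → IsIrrCharacter L θ → Con L χ θ → (A' χ ↔ A θ) ∧ (A θ → χ 1 = c * θ 1)) :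
    c ^ 2 * Nat.card {χ // IsIrrCharacter G χ ∧ A' χ} = L.index * Nat.card {θ // IsIrrCharacter L θ ∧ A θ} := by
  classical
  have := Fintype.ofFinite G
  have := Fintype.ofFinite L
  have := finite_irr (G := G)
  have := finite_irr (G := L)
  have := Fintype.ofFinite (IrrCharacter G)
  have := Fintype.ofFinite (IrrCharacter L)
  let m : IrrCharacter G → IrrCharacter L → ℂ := fun χ θ => classInner (fun n : L => (χ : G → ℂ) n) (θ : L → ℂ)
  have hm : ∀ χ θ, m χ θ ≠ 0 → (A' χ ↔ A θ) ∧ (A θ → (χ : G → ℂ) 1 = c * (θ : L → ℂ) 1) := fun χ θ h0 =>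
    h _ _ χ.2 θ.2 (by intro i; convert h0)
  have F1 : ∀ χ : IrrCharacter G, A' χ → ∑ θ ∈ Finset.univ.filter fun θ : IrrCharacter L => A θ, m χ θ = c := by
    intro χ hχ
    have h1 := congrFun (classFunction_eq_sum (isCharacter_isClassFunction
      (Clifford.isCharacter_restrict L (isIrr_isCharacter χ.2)))) 1
    rw [Finset.sum_apply, OneMemClass.coe_one] at h1
    refine mul_right_cancel₀ (isIrr_apply_one_ne_zero χ.2) ?_
    conv_rhs => rw [h1]
    rw [Finset.sum_mul, Finset.mul_sum, Finset.sum_filter]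
    refine Finset.sum_congr rfl fun θ _ => ?_
    change _ = c * (m χ θ * _)
    rcases eq_or_ne (m χ θ) 0 with h0 | h0
    · simp [h0]
    · rw [if_pos ((hm _ _ h0).1.1 hχ), (hm _ _ h0).2 ((hm _ _ h0).1.1 hχ)]
      ring
  have F2 : ∀ θ : IrrCharacter L, A θ →
      ∑ χ ∈ Finset.univ.filter fun χ : IrrCharacter G => A' χ, c * m χ θ = L.index := by
    intro θ hθ
    have h1 := congrFun (classFunction_eq_sum (Brauer.indFun_isClassFunction L (θ : L → ℂ))) 1
    rw [H649.MN.indFun_one, Finset.sum_apply] at h1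
    refine mul_right_cancel₀ (isIrr_apply_one_ne_zero θ.2) ?_
    rw [h1, Finset.sum_mul, Finset.sum_filter]
    refine Finset.sum_congr rfl fun χ _ => ?_
    obtain ⟨k, hk⟩ := classInner_isNat (Clifford.isCharacter_restrict L (isIrr_isCharacter χ.2))
      (isIrr_isCharacter θ.2)
    rw [Pi.smul_apply, smul_eq_mul, Brauer.classInner_indFun _ _ _ _ (isIrr_isClassFunction χ.2),
      ← classInner_conj_symm, hk, Complex.conj_natCast, ← hk]
    change _ = m χ θ * _
    rcases eq_or_ne (m χ θ) 0 with h0 | h0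
    · simp [h0]
    · rw [if_pos ((hm _ _ h0).1.2 hθ), (hm _ _ h0).2 hθ]
      ring
  have e1 : Nat.card {χ // IsIrrCharacter G χ ∧ A' χ} = (Finset.univ.filter fun χ : IrrCharacter G => A' χ).card := by
    rw [← Fintype.card_subtype, ← Nat.card_eq_fintype_card]
    exact Nat.card_congr ⟨fun χ => ⟨⟨χ.1, χ.2.1⟩, χ.2.2⟩, fun χ => ⟨χ.1.1, χ.1.2, χ.2⟩, fun _ => rfl, fun _ => rfl⟩
  have e2 : Nat.card {θ // IsIrrCharacter L θ ∧ A θ} = (Finset.univ.filter fun θ : IrrCharacter L => A θ).card := by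
    rw [← Fintype.card_subtype, ← Nat.card_eq_fintype_card]
    exact Nat.card_congr ⟨fun χ => ⟨⟨χ.1, χ.2.1⟩, χ.2.2⟩, fun χ => ⟨χ.1.1, χ.1.2, χ.2⟩, fun _ => rfl, fun _ => rfl⟩
  have h3 := Finset.sum_congr rfl fun θ (hθ : θ ∈ Finset.univ.filter fun θ : IrrCharacter L => A θ) =>
    F2 θ (Finset.mem_filter.1 hθ).2
  rw [Finset.sum_comm, Finset.sum_congr rfl fun χ hχ => by
    rw [← Finset.mul_sum, F1 χ (Finset.mem_filter.1 hχ).2], Finset.sum_const, Finset.sum_const, nsmul_eq_mul,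
    nsmul_eq_mul] at h3
  rw [e1, e2]
  apply Nat.cast_injective (R := ℂ)
  push_cast
  linear_combination h3

/-- the degrees over a normal subgroup of prime index -/
theorem con_cases [L.Normal] {p : ℕ} (hp : p.Prime) (hi : L.index = p) {g : G} (hg : g ∉ L) {χ : G → ℂ} {θ : L → ℂ}
    (hχ : IsIrrCharacter G χ) (hθ : IsIrrCharacter L θ) (h : Con L χ θ) :
    ((∀ x, θ (MulAut.conjNormal g x) = θ x) ∧ χ 1 = θ 1) ∨
      ((¬ ∀ x, θ (MulAut.conjNormal g x) = θ x) ∧ χ 1 = p * θ 1) := by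
  have := Fintype.ofFinite G
  have := Fintype.ofFinite L
  have h1 : (∀ x, θ (MulAut.conjNormal g x) = θ x) ↔ g ∈ H261.TI.stab L θ := Iff.rfl
  rw [h1]
  rcases H261.TI.prime_cases L hp hi hθ with h2 | h2
  · exact Or.inl ⟨h2.1 ▸ mem_top g, h2.2 χ hχ h⟩
  · exact Or.inr ⟨h2.1.symm ▸ hg, h2.2.2.2 χ hχ h ▸ h2.2.2.1⟩

omit [Finite G] in
theorem odd_iff_of_eq {K : Type} [Group K] {χ : G → ℂ} {θ : K → ℂ} {c : ℕ} (hθ : IsIrrCharacter K θ)
    (h : χ 1 = c * θ 1) : Odd (charDegree χ) ↔ Odd c ∧ Odd (charDegree θ) := by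
  rw [apply_one (isIrr_isCharacter hθ), ← Nat.cast_mul] at h
  rw [charDegree_of h, Nat.odd_mul]

/-- **index two**, with side conditions -/
theorem card_index_two [L.Normal] (hi : L.index = 2) {g : G} (hg : g ∉ L) {p : (G → ℂ) → Prop} {q : (L → ℂ) → Prop}
    (h : ∀ χ θ, IsIrrCharacter G χ → IsIrrCharacter L θ → Con L χ θ → (p χ ↔ q θ)) :
    Nat.card {χ // OI G χ ∧ p χ} =
      2 * Nat.card {θ // OI L θ ∧ q θ ∧ ∀ x, θ (MulAut.conjNormal g x) = θ x} := by
  have h1 := dc (L := L) (c := 1) (A' := fun χ => Odd (charDegree χ) ∧ p χ)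
    (A := fun θ => Odd (charDegree θ) ∧ q θ ∧ ∀ x, θ (MulAut.conjNormal g x) = θ x) fun χ θ hχ hθ hc => by
      rcases con_cases Nat.prime_two hi hg hχ hθ hc with h2 | h2
      · refine ⟨?_, fun _ => by rw [h2.2, Nat.cast_one, one_mul]⟩
        rw [charDegree_congr h2.2, h χ θ hχ hθ hc, and_iff_left h2.1]
      · exact ⟨iff_of_false (fun h3 => absurd ((odd_iff_of_eq hθ h2.2).1 h3.1).1 (by decide)) fun h3 => h2.1 h3.2.2,
          fun h3 => absurd h3.2.2 h2.1⟩
  rw [one_pow, one_mul, hi] at h1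
  simpa only [OI, and_assoc] using h1

theorem k0_index_two' [L.Normal] (hi : L.index = 2) {g : G} (hg : g ∉ L) :
    k0 G = 2 * f0 (MulAut.conjNormal g : MulAut L) := by
  rw [← k0_eq_of (p := fun _ => True) fun _ _ => trivial, card_index_two hi hg (q := fun _ => True)
    fun _ _ _ _ _ => Iff.rfl]
  simp only [true_and, f0]

theorem k0_index_prime' [L.Normal] {p : ℕ} (hp : p.Prime) (ho : Odd p) (hi : L.index = p) {g : G} (hg : g ∉ L) :
    p * k0 G + f0 (MulAut.conjNormal g : MulAut L) = p ^ 2 * f0 (MulAut.conjNormal g : MulAut L) + k0 L := by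
  classical
  let I : (L → ℂ) → Prop := fun θ => ∀ x, θ (MulAut.conjNormal g x) = θ x
  let J : (G → ℂ) → Prop := fun χ => ∃ θ, IsIrrCharacter L θ ∧ Con L χ θ ∧ I θ
  have hJ : ∀ χ θ, IsIrrCharacter G χ → IsIrrCharacter L θ → Con L χ θ → (J χ ↔ I θ) := fun χ θ hχ hθ hc => by
    refine ⟨fun ⟨θ', h1, h2, h3⟩ => ?_, fun h1 => ⟨θ, hθ, hc, h1⟩⟩
    have := Fintype.ofFinite G
    have := Fintype.ofFinite L
    obtain ⟨y, rfl⟩ := Clifford.exists_conj_of_constituents L hχ h1 hθ h2 hc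
    have h4 : H261.TI.stab L θ' = ⊤ :=
      ((H261.TI.prime_cases L hp hi h1).resolve_right fun h5 => hg (h5.1 ▸ (h3 : g ∈ H261.TI.stab L θ'))).1
    have h5 : ∀ y : G, ∀ x, θ' (MulAut.conjNormal y x) = θ' x := fun y => (h4 ▸ mem_top y : y ∈ H261.TI.stab L θ')
    intro x
    simp only [Function.comp_apply, h5]
  have h1 := dc (L := L) (c := 1) (A' := fun χ => Odd (charDegree χ) ∧ J χ)
    (A := fun θ => Odd (charDegree θ) ∧ I θ) fun χ θ hχ hθ hc => by
      rcases con_cases hp hi hg hχ hθ hc with h2 | h2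
      · refine ⟨?_, fun _ => by rw [h2.2, Nat.cast_one, one_mul]⟩
        rw [charDegree_congr h2.2, hJ χ θ hχ hθ hc]
      · exact ⟨iff_of_false (fun h3 => h2.1 ((hJ χ θ hχ hθ hc).1 h3.2)) fun h3 => h2.1 h3.2,
          fun h3 => absurd h3.2 h2.1⟩
  have h2 := dc (L := L) (c := p) (A' := fun χ => Odd (charDegree χ) ∧ ¬ J χ)
    (A := fun θ => Odd (charDegree θ) ∧ ¬ I θ) fun χ θ hχ hθ hc => by
      rcases con_cases hp hi hg hχ hθ hc with h2 | h2
      · exact ⟨iff_of_false (fun h3 => h3.2 ((hJ χ θ hχ hθ hc).2 h2.1)) fun h3 => h3.2 h2.1,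
          fun h3 => absurd h2.1 h3.2⟩
      · refine ⟨?_, fun _ => h2.2⟩
        rw [odd_iff_of_eq hθ h2.2, and_iff_right ho, hJ χ θ hχ hθ hc]
  have sp : ∀ (K : Type) [Group K] [Finite K] (r : (K → ℂ) → Prop), k0 K =
      Nat.card {χ // IsIrrCharacter K χ ∧ Odd (charDegree χ) ∧ r χ} +
        Nat.card {χ // IsIrrCharacter K χ ∧ Odd (charDegree χ) ∧ ¬ r χ} := fun K _ _ r => by
    have := finite_oi' (G := K)
    rw [k0, ← Nat.card_congr (Equiv.sumCompl fun χ : {χ // OI K χ} => r χ.1), Nat.card_sum]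
    congr 1 <;> exact Nat.card_congr ⟨fun χ => ⟨χ.1.1, χ.1.2.1, χ.1.2.2, χ.2⟩,
      fun χ => ⟨⟨χ.1, χ.2.1, χ.2.2.1⟩, χ.2.2.2⟩, fun _ => rfl, fun _ => rfl⟩
  have h3 : f0 (MulAut.conjNormal g : MulAut L) =
      Nat.card {θ // IsIrrCharacter L θ ∧ Odd (charDegree θ) ∧ I θ} := by simp only [f0, OI, and_assoc, I]
  rw [one_pow, one_mul, hi] at h1
  rw [hi, pow_two, mul_assoc] at h2
  rw [sp G J, sp L I, h3, h1, ← Nat.eq_of_mul_eq_mul_left hp.pos h2]
  ring

end idx

theorem f0_range (f : H →* G) (hf : Function.Injective f) [f.range.Normal] {a : G} {α : MulAut H}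
    (h : ∀ x, f (α x) = a * f x * a⁻¹) : f0 α = f0 (MulAut.conjNormal a : MulAut f.range) :=
  f0_congr (MonoidHom.ofInjective hf) fun x => Subtype.ext (h x)

/-- **index two** -/
theorem k0_index_two [Finite G] (f : H →* G) (hf : Function.Injective f) (hi : f.range.index = 2) {a : G}
    (ha : a ∉ f.range) {α : MulAut H} (h : ∀ x, f (α x) = a * f x * a⁻¹) : k0 G = 2 * f0 α := by
  have := normal_of_index_eq_two hi
  rw [f0_range f hf h, k0_index_two' hi ha]

/-- **odd prime index** -/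
theorem k0_index_prime [Finite G] (f : H →* G) (hf : Function.Injective f) (hn : f.range.Normal) {p : ℕ}
    (hp : p.Prime) (ho : Odd p) (hi : f.range.index = p) {a : G} (ha : a ∉ f.range) {α : MulAut H}
    (h : ∀ x, f (α x) = a * f x * a⁻¹) : p * k0 G + f0 α = p ^ 2 * f0 α + k0 H := by
  rw [f0_range f hf h, k0_index_prime' hp ho hi ha, k0_congr (MonoidHom.ofInjective hf)]

theorem conj_inj (hZ : center G = ⊥) : Function.Injective (MulAut.conj : G →* MulAut G) := by
  rw [injective_iff_map_eq_one]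
  intro g hg
  rw [← mem_bot, ← hZ, mem_center_iff]
  intro x
  exact (mul_inv_eq_iff_eq_mul.1 (MulEquiv.congr_fun hg x)).symm

/-- the automorphism group -/
theorem k0_aut [Finite G] (hZ : center G = ⊥) (hi : (MulAut.conj : G →* MulAut G).range.index = 2) {α : MulAut G}
    (hα : α ∉ (MulAut.conj : G →* MulAut G).range) : k0 (MulAut G) = 2 * f0 α :=
  k0_index_two _ (conj_inj hZ) hi hα (conj_map α)

end Cfsg.Agent.MK.T
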