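import Cfsg.Agent.MK.T.A
import Cfsg.Agent.MK.Basic
import Cfsg.Agent.QTNorm.SelfNorm

/-!
# MK, tools for the small rows: `Sm` for groups with trivial centre (helper11)

* `fN K α` : the fixed characters of a subgroup; `sm_of_pair`, `sm_of_one`, `sm_of_two'`, `sm_of_two`;
* `k0_over`, `selfN_aut`, `selfN_aut_of_phi`, `a2_aut`, `fN_norm_eq`, `aut_equiv`;
* `f0_two`, `f0_two_index` : fixed linear characters of a `2`-group.
-/

set_option autoImplicit false

namespace Cfsg.Agent.MK.T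

open Cfsg Subgroup Cfsg.Agent.ODD.Red Cfsg.Agent.Characters Cfsg.Agent.Characters.Core Cfsg.Agent.QTNorm

variable {X : Type} [Group X]

/-- the number of irreducible characters of odd degree of `K` which are fixed by `α` -/
noncomputable def fN (K : Subgroup X) (α : MulAut X) : ℕ :=
  Nat.card {ψ : K → ℂ // OI K ψ ∧ ∀ y y' : K, (y' : X) = α y → ψ y' = ψ y}

/-- the restriction of an automorphism -/
def res (K : Subgroup X) (α : MulAut X) (h : ∀ x, α x ∈ K ↔ x ∈ K) : MulAut K where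
  toFun y := ⟨α y, (h _).2 y.2⟩
  invFun y := ⟨α⁻¹ y, (h _).1 (by rw [MulAut.apply_inv_self]; exact y.2)⟩
  left_inv y := Subtype.ext (by simp)
  right_inv y := Subtype.ext (by simp)
  map_mul' a b := Subtype.ext (by simp)

theorem res_coe (K : Subgroup X) (α : MulAut X) (h : ∀ x, α x ∈ K ↔ x ∈ K) (y : K) : (res K α h y : X) = α y := rfl

theorem fix_iff {K : Subgroup X} {α : MulAut X} {β : MulAut K} (h : ∀ y, (β y : X) = α y) (ψ : K → ℂ) :
    (∀ y y' : K, (y' : X) = α y → ψ y' = ψ y) ↔ ∀ y, ψ (β y) = ψ y :=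
  ⟨fun h1 y => h1 _ _ (h y), fun h1 y y' h2 => by rw [show y' = β y from Subtype.ext (h2.trans (h y).symm), h1]⟩

theorem fN_eq_f0 {K : Subgroup X} {α : MulAut X} {β : MulAut K} (h : ∀ y, (β y : X) = α y) : fN K α = f0 β :=
  Nat.card_congr (Equiv.subtypeEquivRight fun ψ => and_congr_right fun _ => fix_iff h ψ)

theorem fN_one (K : Subgroup X) : fN K 1 = k0 K :=
  k0_eq_of fun ψ _ y y' h => by rw [show y' = y from Subtype.ext h]

theorem fN_top (α : MulAut X) : fN ⊤ α = f0 α := by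
  rw [fN_eq_f0 (β := res ⊤ α fun _ => Iff.rfl) fun _ => rfl]
  exact f0_congr topEquiv fun _ => rfl

theorem stab_of_le {Q : Subgroup X} [Finite Q] {α : MulAut X} (h : ∀ x ∈ Q, α x ∈ Q) (x : X) : α x ∈ Q ↔ x ∈ Q := by
  refine ⟨fun h1 => ?_, h x⟩
  have h2 : Function.Injective fun y : Q => (⟨α y, h _ y.2⟩ : Q) := fun a b e =>
    Subtype.ext (α.injective (congrArg Subtype.val e))
  obtain ⟨y, hy⟩ := Finite.surjective_of_injective h2 ⟨_, h1⟩
  rw [← α.injective (congrArg Subtype.val hy)]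
  exact y.2

theorem stab_norm {Q : Subgroup X} {α : MulAut X} (h : ∀ x, α x ∈ Q ↔ x ∈ Q) (x : X) :
    α x ∈ normalizer (Q : Set X) ↔ x ∈ normalizer (Q : Set X) := by
  rw [mem_normalizer_iff, mem_normalizer_iff]
  refine ⟨fun h1 y => ?_, fun h1 y => ?_⟩
  · rw [← h, h1, ← map_inv, ← map_mul, ← map_mul, h]
  · obtain ⟨y, rfl⟩ := α.surjective y
    rw [← map_inv, ← map_mul, ← map_mul, h, h, ← h1]

theorem fix_conj_mul {K : Subgroup X} {n : X} (hn : n ∈ K) (α : MulAut X) {ψ : K → ℂ} (h : OI K ψ) :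
    (∀ y y' : K, (y' : X) = (MulAut.conj n * α) y → ψ y' = ψ y) ↔ ∀ y y' : K, (y' : X) = α y → ψ y' = ψ y := by
  refine ⟨fun h1 y y' h2 => ?_, fun h1 y y' h2 => ?_⟩
  · rw [← isIrr_isClassFunction h.1 y' ⟨n, hn⟩]
    exact h1 _ _ (by rw [MulAut.mul_apply, ← h2]; rfl)
  · rw [← isIrr_isClassFunction h.1 y' ⟨n, hn⟩⁻¹]
    refine h1 _ _ ?_
    change n⁻¹ * y' * n⁻¹⁻¹ = _
    rw [h2, MulAut.mul_apply, MulAut.conj_apply]
    group

theorem fN_conj_mul {K : Subgroup X} {n : X} (hn : n ∈ K) (α : MulAut X) : fN K (MulAut.conj n * α) = fN K α :=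
  Nat.card_congr (Equiv.subtypeEquivRight fun _ => and_congr_right fun h => fix_conj_mul hn α h)

theorem fB_conj_mul {K : Subgroup X} {n : X} (hn : n ∈ K) (l : X → ℂ) (α : MulAut X) :
    fB K l (MulAut.conj n * α) = fB K l α :=
  Nat.card_congr (Equiv.subtypeEquivRight fun _ => and_congr_right fun h => and_congr_right fun _ =>
    fix_conj_mul hn α h)

theorem fA_conj_mul (n : X) (l : X → ℂ) (α : MulAut X) : fA l (MulAut.conj n * α) = fA l α :=
  Nat.card_congr (Equiv.subtypeEquivRight fun _ => and_congr_right fun h => and_congr_right fun _ =>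
    forall_congr' fun x => by rw [MulAut.mul_apply, MulAut.conj_apply, isIrr_isClassFunction h.1])

theorem fA_one [Finite X] (l : X → ℂ) : fA l 1 = kk ⊤ (center X) l := by
  rw [kk_top]
  exact Nat.card_congr (Equiv.subtypeEquivRight fun _ => and_congr_right fun _ => and_iff_left fun _ => rfl)

theorem fB_one (K : Subgroup X) (l : X → ℂ) : fB K l 1 = kk K (center X) l :=
  Nat.card_congr (Equiv.subtypeEquivRight fun ψ => and_congr_right fun _ => and_iff_left fun y y' h => by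
    rw [show y' = y from Subtype.ext h])

/-- **the basic form** -/
theorem sm_of_pair [Finite X] (γ : MulAut X)
    (hγ : ∀ α : MulAut X, (∀ z ∈ center X, α z = z) → ∃ x, α = MulAut.conj x ∨ α = MulAut.conj x * γ)
    (Q : Sylow 2 X) (hQ : ∀ x, γ x ∈ (Q : Subgroup X) ↔ x ∈ (Q : Subgroup X))
    (h1 : ∀ l, Fa (center X) l →
      kk ⊤ (center X) l = kk (normalizer ((Q : Subgroup X) : Set X)) (center X) l)
    (h2 : ∀ l, Fa (center X) l → fA l γ = fB (normalizer ((Q : Subgroup X) : Set X)) l γ) : Sm X := by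
  refine ⟨⟨γ, fun α hα => ?_⟩, Q, fun l hl α hα hαQ => ?_⟩
  · obtain ⟨x, h | h⟩ := hγ α hα
    · exact ⟨0, x, by rw [h, pow_zero, mul_one]⟩
    · exact ⟨1, x, by rw [h, pow_one]⟩
  · obtain ⟨x, rfl | rfl⟩ := hγ α hα
    · rw [← mul_one (MulAut.conj x), fA_conj_mul, fB_conj_mul (mem_normalizer_iff.2 fun y => (hαQ y).symm), fA_one,
        fB_one, h1 l hl]
    · rw [fA_conj_mul, fB_conj_mul (mem_normalizer_iff.2 fun y => ?_), h2 l hl]
      obtain ⟨y, rfl⟩ := γ.surjective y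
      exact (hQ y).trans (hαQ y).symm

/-- the automorphisms which fix the centre are inner -/
theorem sm_of_inn [Finite X] (hγ : ∀ α : MulAut X, (∀ z ∈ center X, α z = z) → ∃ x, α = MulAut.conj x)
    (Q : Sylow 2 X) (h : ∀ l, Fa (center X) l →
      kk ⊤ (center X) l = kk (normalizer ((Q : Subgroup X) : Set X)) (center X) l) : Sm X :=
  sm_of_pair 1 (fun α hα => (hγ α hα).imp fun _ => Or.inl) Q (fun _ => Iff.rfl) h fun l hl => by
    rw [fA_one, fB_one, h l hl]

theorem fA_eq_fB (hZ : center X = ⊥) {K : Subgroup X} {α : MulAut X} (h : f0 α = fN K α) (l : X → ℂ) :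
    fA l α = fB K l α := by
  by_cases hl : l 1 = 1
  · refine (Eq.trans ?_ h).trans ?_
    · refine Nat.card_congr (Equiv.subtypeEquivRight fun θ => and_congr_right fun _ => and_iff_right fun z hz => ?_)
      rw [show z = 1 from mem_bot.1 (hZ ▸ hz), hl, one_mul]
    · refine Nat.card_congr (Equiv.subtypeEquivRight fun θ => and_congr_right fun _ =>
        (and_iff_right fun z hz => ?_).symm)
      obtain rfl : z = 1 := Subtype.ext (mem_bot.1 (hZ ▸ hz))
      rw [OneMemClass.coe_one, hl, one_mul]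
  · have h1 : IsEmpty {θ : X → ℂ // OI X θ ∧ (∀ z ∈ center X, θ z = l z * θ 1) ∧ ∀ x, θ (α x) = θ x} :=
      ⟨fun θ => hl (mul_right_cancel₀ θ.2.1.one_ne ((θ.2.2.1 1 (one_mem _)).symm.trans (one_mul _).symm))⟩
    have h2 : IsEmpty {ψ : K → ℂ // OI K ψ ∧ Ov K (center X) l ψ ∧ ∀ y y' : K, (y' : X) = α y → ψ y' = ψ y} :=
      ⟨fun ψ => hl (ψ.2.2.1.l_one ψ.2.1.one_ne)⟩
    rw [fA, fB, Nat.card_of_isEmpty, Nat.card_of_isEmpty]

theorem kk_eq_kk [Finite X] (hZ : center X = ⊥) {K : Subgroup X} (h : k0 X = k0 K) (l : X → ℂ) :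
    kk ⊤ (center X) l = kk K (center X) l := by
  rw [← fA_one, ← fB_one]
  exact fA_eq_fB hZ (by rw [fN_one, ← h]; exact f0_eq_of_all fun _ _ _ => rfl) l

/-- **trivial outer automorphism group** -/
theorem sm_of_one [Finite X] (hZ : center X = ⊥) (hi : (MulAut.conj : X →* MulAut X).range.index = 1) (h : M0 X) :
    Sm X :=
  sm_of_inn (fun α _ => (index_eq_one.1 hi ▸ mem_top α : α ∈ (MulAut.conj : X →* MulAut X).range).imp
    fun _ => Eq.symm) default (kk_eq_kk hZ (h _) · |> fun h _ => h)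

/-- **outer automorphism group of order two**, explicit form -/
theorem sm_of_two' [Finite X] (hZ : center X = ⊥) (hi : (MulAut.conj : X →* MulAut X).range.index = 2)
    (Q : Sylow 2 X) {α : MulAut X} (hα : α ∉ (MulAut.conj : X →* MulAut X).range)
    (hQ : ∀ x, α x ∈ (Q : Subgroup X) ↔ x ∈ (Q : Subgroup X)) (h1 : M0 X)
    (h2 : f0 α = fN (normalizer ((Q : Subgroup X) : Set X)) α) : Sm X := by
  refine sm_of_pair α (fun β _ => ?_) Q hQ (fun l _ => kk_eq_kk hZ (h1 Q) l) fun l _ => fA_eq_fB hZ h2 l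
  by_cases hβ : β ∈ (MulAut.conj : X →* MulAut X).range
  · exact hβ.imp fun _ h => Or.inl h.symm
  · obtain ⟨x, hx⟩ := (mul_mem_iff_of_index_two hi).2 (iff_of_false hβ fun e => hα (inv_mem_iff.1 e))
    exact ⟨x, Or.inr (by rw [hx, inv_mul_cancel_right])⟩

/-! ### subgroups of the automorphism group -/

/-- the inner automorphisms in `M` -/
def inH (M : Subgroup (MulAut X)) : In M →* M :=
  ((MulAut.conj : X →* MulAut X).comp (In M).subtype).codRestrict M fun y => y.2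

section aut

variable [Finite X] (hZ : center X = ⊥) (hi : (MulAut.conj : X →* MulAut X).range.index = 2)
  {M : Subgroup (MulAut X)} {α : MulAut X}

omit [Finite X] in
theorem mem_range_inH (β : M) : β ∈ (inH M).range ↔ (β : MulAut X) ∈ (MulAut.conj : X →* MulAut X).range :=
  ⟨fun ⟨y, h⟩ => ⟨y, congrArg Subtype.val h⟩, fun ⟨y, h⟩ => ⟨⟨y, show MulAut.conj y ∈ M from h ▸ β.2⟩, Subtype.ext h⟩⟩

omit [Finite X] in
include hi in
theorem index_inH (hα : α ∈ M) (hn : α ∉ (MulAut.conj : X →* MulAut X).range) : (inH M).range.index = 2 := by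
  rw [index_eq_two_iff]
  refine ⟨⟨α, hα⟩, fun b => ?_⟩
  rw [mem_range_inH, mem_range_inH, coe_mul, mul_mem_iff_of_index_two hi]
  unfold Xor
  tauto

omit [Finite X] in
include hZ in
theorem inH_inj : Function.Injective (inH M) := fun _ _ h =>
  Subtype.ext (conj_inj hZ (congrArg Subtype.val h))

include hZ hi

theorem k0_over (hα : α ∈ M) (hn : α ∉ (MulAut.conj : X →* MulAut X).range) : k0 M = 2 * fN (In M) α := by
  rw [fN_eq_f0 (β := rs M ⟨α, hα⟩) fun _ => rfl]
  exact k0_index_two (inH M) (inH_inj hZ) (index_inH hi hα hn) (a := ⟨α, hα⟩) (fun h => hn ((mem_range_inH _).1 h))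
    fun y => Subtype.ext (conj_map α y)

omit [Finite X] in
theorem card_over (hα : α ∈ M) (hn : α ∉ (MulAut.conj : X →* MulAut X).range) :
    Nat.card M = 2 * Nat.card (In M) := by
  rw [← (inH M).range.index_mul_card, index_inH hi hα hn,
    Nat.card_congr (MonoidHom.ofInjective (inH_inj hZ (M := M))).toEquiv]

omit [Finite X] in
theorem card_aut : Nat.card (MulAut X) = 2 * Nat.card X := by
  rw [← (MulAut.conj : X →* MulAut X).range.index_mul_card, hi,
    Nat.card_congr (MonoidHom.ofInjective (conj_inj hZ)).toEquiv]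

omit hZ in
theorem exists_out (P : Sylow 2 (MulAut X)) :
    ∃ α ∈ (P : Subgroup (MulAut X)), α ∉ (MulAut.conj : X →* MulAut X).range := by
  have := two_prime
  by_contra h
  exact P.not_dvd_index (hi.symm.dvd.trans (index_dvd_of_le fun α hα => by_contra fun h1 => h ⟨α, hα, h1⟩))

/-- the Sylow subgroup of `X` inside a Sylow subgroup of the automorphism group -/
theorem exists_sylow_In (P : Sylow 2 (MulAut X)) : ∃ Q : Sylow 2 X, (Q : Subgroup X) = In P := by
  have := two_prime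
  obtain ⟨α, h1, h2⟩ := exists_out hi P
  refine exists_sylow (P.isPGroup'.comap_of_injective _ (conj_inj hZ)) ?_
  have h3 := (P : Subgroup (MulAut X)).card_mul_index
  rw [card_over hZ hi h1 h2, card_aut hZ hi, ← (In (P : Subgroup (MulAut X))).card_mul_index, mul_assoc] at h3
  rw [← Nat.eq_of_mul_eq_mul_left Nat.card_pos (Nat.eq_of_mul_eq_mul_left two_pos h3)]
  exact Nat.odd_iff.2 (Nat.two_dvd_ne_zero.1 P.not_dvd_index)

omit [Finite X] hZ hi in
theorem In_Nm (Q : Subgroup X) : In (Nm ⊤ Q) = normalizer (Q : Set X) := by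
  ext x
  exact ⟨fun h => mem_normalizer_iff.2 fun y => (h.2 y).symm, fun h => ⟨trivial, fun y => (mem_normalizer_iff.1 h y).symm⟩⟩

omit [Finite X] hZ hi in
theorem norm_le_Nm (P : Subgroup (MulAut X)) : normalizer (P : Set (MulAut X)) ≤ Nm ⊤ (In P) := fun β hβ =>
  ⟨trivial, fun x => by
    change MulAut.conj (β x) ∈ P ↔ MulAut.conj x ∈ P
    rw [conj_map, ← mem_normalizer_iff.1 hβ]⟩

theorem k0_Nm' (ih : IH (Nat.card X)) (P : Sylow 2 (MulAut X))
    (h4 : normalizer ((In (P : Subgroup (MulAut X)) : Subgroup X) : Set X) ≠ ⊤) :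
    k0 (Nm ⊤ (In (P : Subgroup (MulAut X)))) = k0 (normalizer ((P : Subgroup (MulAut X)) : Set (MulAut X))) := by
  have := two_prime
  obtain ⟨α, h1, h2⟩ := exists_out hi P
  obtain ⟨Q, hQ⟩ := exists_sylow_In hZ hi P
  refine ih.k0_sub ?_ P (norm_le_Nm _)
  have h5 : ¬ 2 ∣ (normalizer ((In (P : Subgroup (MulAut X)) : Subgroup X) : Set X)).index := fun e =>
    Q.not_dvd_index (hQ ▸ e.trans (index_dvd_of_le le_normalizer))
  have h6 := index_eq_one.not.2 h4
  rw [card_over hZ hi (norm_le_Nm _ (le_normalizer h1)) h2, In_Nm,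
    ← (normalizer ((In (P : Subgroup (MulAut X)) : Subgroup X) : Set X)).index_mul_card]
  exact Nat.mul_lt_mul_of_pos_right (by omega) Nat.card_pos

theorem k0_Nm (ih : IH (Nat.card X)) (h : M0 (MulAut X)) (P : Sylow 2 (MulAut X)) :
    k0 (Nm ⊤ (In (P : Subgroup (MulAut X)))) = k0 (MulAut X) := by
  by_cases h4 : normalizer ((In (P : Subgroup (MulAut X)) : Subgroup X) : Set X) = ⊤
  · obtain ⟨α, h1, h2⟩ := exists_out hi P
    rw [eq_top_of_card_eq (Nm ⊤ (In (P : Subgroup (MulAut X)))) (by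
      rw [card_over hZ hi (norm_le_Nm _ (le_normalizer h1)) h2, In_Nm, h4, card_top, card_aut hZ hi])]
    exact k0_congr topEquiv
  · rw [h P, k0_Nm' hZ hi ih P h4]

/-- **outer automorphism group of order two** -/
theorem sm_of_two (ih : IH (Nat.card X)) (h1 : M0 X) (h2 : M0 (MulAut X)) : Sm X := by
  obtain ⟨α, h3, h4⟩ := exists_out hi default
  obtain ⟨Q, hQ⟩ := exists_sylow_In hZ hi default
  have h5 := norm_le_Nm _ (le_normalizer h3)
  refine sm_of_two' hZ hi Q h4 (hQ ▸ h5.2) h1 (Nat.eq_of_mul_eq_mul_left two_pos ?_)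
  rw [← k0_aut hZ hi h4, hQ, ← In_Nm, ← k0_over hZ hi h5 h4, k0_Nm hZ hi ih h2]

theorem selfN_aut (h : SelfN X) : SelfN (MulAut X) := fun P => by
  obtain ⟨α, h1, h2⟩ := exists_out hi P
  obtain ⟨Q, hQ⟩ := exists_sylow_In hZ hi P
  refine (norm_le_Nm _).trans (eq_of_le_of_card_ge (le_normalizer.trans (norm_le_Nm _)) ?_).ge
  rw [card_over hZ hi h1 h2, card_over hZ hi (norm_le_Nm _ (le_normalizer h1)) h2, In_Nm, ← hQ,
    le_antisymm (h Q) le_normalizer]

/-- the hypothesis is `∀ Q, GAL.Spor.Phi Q` -/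
theorem selfN_aut_of_phi (h : ∀ (Q : Sylow 2 X) (r : MulAut X), (∃ k : ℕ, r ^ 2 ^ k = 1) →
    (¬ ∃ s, r = MulAut.conj s) → (∀ q ∈ (Q : Subgroup X), r q ∈ (Q : Subgroup X)) →
    ∀ y ∈ normalizer ((Q : Subgroup X) : Set X), Odd (orderOf y) → y⁻¹ * r y ∈ (Q : Subgroup X) → y = 1) :
    SelfN (MulAut X) := by
  refine SelfNorm.sn_of_odd default fun β hβ ho => ?_
  obtain ⟨α, h1, h2⟩ := exists_out hi default
  obtain ⟨Q, hQ⟩ := exists_sylow_In hZ hi default
  obtain ⟨y, rfl⟩ : β ∈ (MulAut.conj : X →* MulAut X).range := by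
    obtain ⟨k, hk⟩ := ho
    have h3 := pow_orderOf_eq_one β
    rw [hk, pow_succ, pow_mul, mul_eq_one_iff_inv_eq] at h3
    rw [← h3]
    exact inv_mem (pow_mem (sq_mem_of_index_two hi β) k)
  obtain ⟨k, hk⟩ := (default : Sylow 2 (MulAut X)).isPGroup' ⟨α, h1⟩
  rw [h Q α ⟨k, congrArg Subtype.val hk⟩ (fun ⟨s, e⟩ => h2 ⟨s, e.symm⟩)
    (fun q hq => hQ ▸ map_mem_In h1 (hQ ▸ hq)) y (by rw [hQ, ← In_Nm]; exact norm_le_Nm _ hβ)
    (by rwa [orderOf_injective _ (conj_inj hZ)] at ho) ?_, map_one]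
  rw [hQ]
  change MulAut.conj (y⁻¹ * α y) ∈ ((default : Sylow 2 (MulAut X)) : Subgroup (MulAut X))
  rw [map_mul, conj_map, map_inv, ← mul_assoc, ← mul_assoc]
  exact mul_mem ((mem_normalizer_iff''.1 hβ α).1 h1) (inv_mem h1)

omit hi in
theorem exists_sylow_aut (Q : Sylow 2 X) (hQ : ∀ x, α x ∈ (Q : Subgroup X) ↔ x ∈ (Q : Subgroup X))
    (h2 : ∃ k : ℕ, α ^ 2 ^ k = 1) : ∃ P : Sylow 2 (MulAut X), α ∈ (P : Subgroup (MulAut X)) ∧
      In (P : Subgroup (MulAut X)) = (Q : Subgroup X) := by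
  have := two_prime
  have h3 : IsPGroup 2 (zpowers α) := by
    obtain ⟨k, hk⟩ := h2
    obtain ⟨j, -, hj⟩ := (Nat.dvd_prime_pow Nat.prime_two).1 (orderOf_dvd_of_pow_eq_one hk)
    exact IsPGroup.of_card (by rw [Nat.card_zpowers, hj])
  have h4 : zpowers α ≤ normalizer ((Cj (Q : Subgroup X) : Subgroup (MulAut X)) : Set (MulAut X)) := by
    refine zpowers_le.2 (mem_normalizer_fintype ?_)
    rintro _ ⟨x, hx, rfl⟩
    exact ⟨α x, (hQ x).2 hx, conj_map α x⟩
  obtain ⟨P, hP⟩ := (IsPGroup.to_sup_of_normal_right' h3 (Q.isPGroup'.map _) h4).exists_le_sylow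
  exact ⟨P, hP (mem_sup_left (mem_zpowers α)), Q.is_maximal' (P.isPGroup'.comap_of_injective _ (conj_inj hZ))
    fun x hx => hP (mem_sup_right ⟨x, hx, rfl⟩)⟩

/-- the Sylow subgroup of the automorphism group -/
theorem a2_aut (Q : Sylow 2 X) (hn : α ∉ (MulAut.conj : X →* MulAut X).range)
    (hQ : ∀ x, α x ∈ (Q : Subgroup X) ↔ x ∈ (Q : Subgroup X)) (h2 : ∃ k : ℕ, α ^ 2 ^ k = 1) :
    a2 (MulAut X) = 2 * fN (Q : Subgroup X) α := by
  obtain ⟨P, h3, h4⟩ := exists_sylow_aut hZ Q hQ h2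
  rw [← ab_sylow P, ← k0_two P.isPGroup', k0_over hZ hi h3 hn, h4]

/-- if the Sylow subgroups of the automorphism group are self-normalizing, only the linear characters of `Q` count -/
theorem fN_norm_eq (ih : IH (Nat.card X)) (h : SelfN (MulAut X)) (Q : Sylow 2 X)
    (hN : normalizer ((Q : Subgroup X) : Set X) ≠ ⊤) (hn : α ∉ (MulAut.conj : X →* MulAut X).range)
    (hQ : ∀ x, α x ∈ (Q : Subgroup X) ↔ x ∈ (Q : Subgroup X)) (h2 : ∃ k : ℕ, α ^ 2 ^ k = 1) :
    fN (normalizer ((Q : Subgroup X) : Set X)) α = fN (Q : Subgroup X) α := by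
  obtain ⟨P, h3, h4⟩ := exists_sylow_aut hZ Q hQ h2
  refine Nat.eq_of_mul_eq_mul_left two_pos ?_
  rw [← a2_aut hZ hi Q hn hQ h2, ← k0_norm_self h P, ← k0_Nm' hZ hi ih P (h4 ▸ hN),
    k0_over hZ hi (norm_le_Nm _ (le_normalizer h3)) hn, In_Nm, h4]

/-- self-normalizing Sylow subgroups -/
theorem sm_of_self (h : SelfN X) (h1 : k0 X = a2 X) (hn : α ∉ (MulAut.conj : X →* MulAut X).range)
    (h2 : 2 * f0 α = a2 (MulAut X)) : Sm X := by
  obtain ⟨β, h3, h4⟩ := exists_out hi default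
  obtain ⟨Q, hQ⟩ := exists_sylow_In hZ hi default
  refine sm_of_two' hZ hi Q h4 (hQ ▸ (norm_le_Nm _ (le_normalizer h3)).2) ((m0_iff h).2 h1)
    (Nat.eq_of_mul_eq_mul_left two_pos ?_)
  rw [← k0_aut hZ hi h4, k0_aut hZ hi hn, h2, le_antisymm (h Q) le_normalizer, hQ, ← k0_over hZ hi h3 h4,
    k0_two (default : Sylow 2 (MulAut X)).isPGroup', ab_sylow]

end aut

/-- a model of the automorphism group -/
theorem aut_equiv [Finite X] {A : Type} [Group A] (hZ : center X = ⊥)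
    (hi : (MulAut.conj : X →* MulAut X).range.index = 2) (f : X →* A) (hf : Function.Injective f)
    (h2 : f.range.index = 2) (hC : ∀ a : A, (∀ x, a * f x = f x * a) → a = 1) :
    ∃ e : A ≃* MulAut X, ∀ a x, f (e a x) = a * f x * a⁻¹ := by
  have := normal_of_index_eq_two h2
  let e := MonoidHom.ofInjective hf
  let φ : A →* MulAut X := (MulAut.congr e).symm.toMonoidHom.comp MulAut.conjNormal
  have hφ : ∀ a x, f (φ a x) = a * f x * a⁻¹ := fun a x =>
    congrArg Subtype.val (e.apply_symm_apply (MulAut.conjNormal a (e x)))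
  have h3 : Function.Injective φ := (injective_iff_map_eq_one φ).2 fun a ha => hC a fun x => by
    rw [← mul_inv_eq_iff_eq_mul, ← hφ, ha, MulAut.one_apply]
  refine ⟨MulEquiv.ofBijective φ ((Nat.bijective_iff_injective_and_card φ).2 ⟨h3, ?_⟩), hφ⟩
  rw [card_aut hZ hi, ← f.range.index_mul_card, h2, Nat.card_congr e.toEquiv]

/-! ### linear characters -/

theorem oi_two [Finite X] (h : IsPGroup 2 X) {χ : X → ℂ} : OI X χ ↔ ∃ μ : X →* ℂˣ, χ = fun x => (μ x : ℂ) := by
  have := two_prime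
  refine ⟨fun h1 => Linear.exists_hom_of_isIrrCharacter h1.1 ?_, ?_⟩
  · obtain ⟨k, hk⟩ := h.exists_card_eq
    have h2 := H142.McKayCount.charDegree_dvd_card (G := X) ⟨χ, h1.1⟩
    rw [hk] at h2
    rw [apply_one (isIrr_isCharacter h1.1), (Nat.coprime_two_right.2 h1.2).pow_right k |>.eq_one_of_dvd h2,
      Nat.cast_one]
  · rintro ⟨μ, rfl⟩
    exact ⟨Linear.isIrrCharacter_hom μ, by rw [charDegree_of (n := 1) (by simp)]; exact odd_one⟩

theorem card_two [Finite X] (h : IsPGroup 2 X) (p : (X → ℂ) → Prop) :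
    Nat.card {χ : X → ℂ // OI X χ ∧ p χ} = Nat.card {μ : X →* ℂˣ // p fun x => (μ x : ℂ)} := by
  refine (Nat.card_congr (Equiv.ofBijective (fun μ => ⟨fun x => (μ.1 x : ℂ), (oi_two h).2 ⟨_, rfl⟩, μ.2⟩)
    ⟨fun a b e => ?_, fun ⟨χ, h1, h2⟩ => ?_⟩)).symm
  · exact Subtype.ext (MonoidHom.ext fun x => Units.ext (congrFun (congrArg Subtype.val e) x))
  · obtain ⟨μ, rfl⟩ := (oi_two h).1 h1
    exact ⟨⟨μ, h2⟩, rfl⟩

theorem f0_two [Finite X] (h : IsPGroup 2 X) (β : MulAut X) :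
    f0 β = Nat.card {μ : X →* ℂˣ // ∀ x, μ (β x) = μ x} := by
  rw [f0, card_two h]
  simp only [Units.val_inj]

/-- the linear characters which are trivial on `W` -/
theorem card_hom_ker [Finite X] (W : Subgroup X) (hW : _root_.commutator X ≤ W) :
    Nat.card {μ : X →* ℂˣ // ∀ w ∈ W, μ w = 1} = W.index := by
  have := Normal.of_commutator_le X hW
  have h1 : _root_.commutator (X ⧸ W) = ⊥ := by
    have h2 := map_commutator_eq X (QuotientGroup.mk' W)
    rw [MonoidHom.range_eq_top.2 (QuotientGroup.mk'_surjective W), ← commutator_def] at h2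
    rw [← h2, Subgroup.map_eq_bot_iff, QuotientGroup.ker_mk']
    exact hW
  rw [index_eq_card, ← index_bot (G := X ⧸ W), ← h1, ← Linear.card_hom_eq_index_commutator]
  exact Nat.card_congr
    { toFun := fun μ => QuotientGroup.lift W μ.1 μ.2
      invFun := fun μ => ⟨μ.comp (QuotientGroup.mk' W), fun w hw => by
        rw [MonoidHom.comp_apply, QuotientGroup.mk'_apply, (QuotientGroup.eq_one_iff w).2 hw, map_one]⟩
      left_inv := fun _ => Subtype.ext (MonoidHom.ext fun _ => rfl)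
      right_inv := fun _ => QuotientGroup.monoidHom_ext W (MonoidHom.ext fun _ => rfl) }

theorem f0_two_index [Finite X] (h : IsPGroup 2 X) (β : MulAut X) :
    f0 β = (_root_.commutator X ⊔ Subgroup.closure (Set.range fun x => x⁻¹ * β x)).index := by
  rw [f0_two h, ← card_hom_ker _ le_sup_left]
  refine Nat.card_congr (Equiv.subtypeEquivRight fun μ => ⟨fun h1 => ?_, fun h1 x => ?_⟩)
  · refine sup_le (b := Subgroup.closure _) (c := μ.ker) (Abelianization.commutator_subset_ker μ)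
      ((closure_le _).2 ?_)
    rintro _ ⟨x, rfl⟩
    change μ (x⁻¹ * β x) = 1
    rw [map_mul, h1, ← map_mul, inv_mul_cancel, map_one]
  · have h2 := h1 _ (mem_sup_right (subset_closure ⟨x, rfl⟩))
    rwa [map_mul, map_inv, inv_mul_eq_one, eq_comm] at h2

end Cfsg.Agent.MK.T
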