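import Cfsg.Agent.MK.T.D
import Cfsg.Agent.CharactersDeep.Extraspecial
import Cfsg.Agent.OddOrderCharacters.PF13.SumBound
import Cfsg.Agent.S4558
import Cfsg.Agent.S0145

/-!
# MK, tools for the small rows: column bounds (helper11)

* `kk_le_cent`, `k0_le_cent`, `kk_le_cent'` : bounds by the centraliser of a `2`-element.
-/

set_option autoImplicit false

namespace Cfsg.Agent.MK.T

open Cfsg Subgroup Cfsg.Agent.Characters Cfsg.Agent.Characters.Core
open scoped ComplexConjugate Classical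

variable {G S : Type} [Group G] [Group S]

/-- column orthogonality over a central character -/
theorem col_over [Fintype G] [Fintype (IrrCharacter G)] {Z : Subgroup G} (hZ : Z ≤ center G) (m : Z →* ℂˣ) (g h : G) :
    (Nat.card Z : ℂ) * ∑ χ : IrrCharacter G with ∀ z : Z, χ.1 z = (m z : ℂ) * χ.1 1, χ.1 g * conj (χ.1 h) =
      ∑ z : Z, ((m z)⁻¹ : ℂˣ) * if IsConj (g * z) h then (Nat.card (centralizer ({h} : Set G)) : ℂ) else 0 := by
  simp_rw [← S0145.sum_irr_mul_conj, Finset.mul_sum]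
  rw [Finset.sum_comm, Finset.sum_filter]
  refine Finset.sum_congr rfl fun χ _ => ?_
  obtain ⟨c, hc, -⟩ := CharactersDeep.Extraspecial.exists_central_hom χ.2
  let f : Z →* ℂ := (Units.coeHom ℂ).comp (m⁻¹ * c.comp (inclusion hZ))
  have h1 : ∀ z : Z, (((m z)⁻¹ : ℂˣ) : ℂ) * (χ.1 (g * z) * conj (χ.1 h)) = f z * (χ.1 g * conj (χ.1 h)) := fun z => by
    rw [show χ.1 (g * z) = _ from hc g (inclusion hZ z)]
    change _ = (((m z)⁻¹ * c (inclusion hZ z) : ℂˣ) : ℂ) * _
    rw [Units.val_mul]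
    ring
  have h2 : (∀ z : Z, χ.1 z = (m z : ℂ) * χ.1 1) ↔ f = 1 := by
    rw [MonoidHom.ext_iff]
    refine forall_congr' fun z => ?_
    have h3 : χ.1 z = χ.1 1 * c (inclusion hZ z) := by
      rw [← hc 1, one_mul]
      rfl
    change _ ↔ (((m z)⁻¹ * c (inclusion hZ z) : ℂˣ) : ℂ) = 1
    rw [h3, mul_comm, mul_left_inj' (isIrr_apply_one_ne_zero χ.2), Units.val_eq_one, inv_mul_eq_one, Units.val_inj, eq_comm]
  rw [Finset.sum_congr rfl fun z _ => h1 z, ← Finset.sum_mul, sum_hom_units, Nat.card_eq_fintype_card]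
  by_cases h3 : f = 1
  · rw [if_pos h3, if_pos (h2.2 h3)]
  · rw [if_neg h3, if_neg (mt h2.1 h3), Nat.cast_zero, zero_mul]

/-- **the column bound** -/
theorem kk_le_cent [Finite G] {Z : Subgroup G} (hZ : Z ≤ center G) (ho : Odd (Nat.card Z)) {u : G} {j : ℕ}
    (hu : u ^ 2 ^ j = 1) (l : G → ℂ) : Nat.card Z * kk ⊤ Z l ≤ Nat.card (centralizer ({u} : Set G)) := by
  have := two_prime
  by_cases hm : ∃ m : Z →* ℂˣ, ∀ z : Z, l z = m z
  swap
  · rw [kk_eq_zero le_top (fun z hz x _ => mem_center_iff.1 (hZ hz) x) hm]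
    exact Nat.zero_le _
  obtain ⟨m, hm⟩ := hm
  have := Fintype.ofFinite G
  have := finite_irr (G := G)
  have := Fintype.ofFinite (IrrCharacter G)
  let A : Finset (IrrCharacter G) := {χ | Odd (charDegree χ.1) ∧ ∀ z : Z, χ.1 z = (m z : ℂ) * χ.1 1}
  let X : Finset G := {g | zpowers g = zpowers u}
  have hA : kk ⊤ Z l = A.card := by
    rw [kk_top, ← Fintype.card_coe, ← Nat.card_eq_fintype_card]
    exact Nat.card_congr
      { toFun := fun χ => ⟨⟨χ.1, χ.2.1.1⟩, Finset.mem_filter.2 ⟨Finset.mem_univ _, χ.2.1.2, fun z => hm z ▸ χ.2.2 z z.2⟩⟩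
        invFun := fun χ => ⟨χ.1.1, ⟨χ.1.2, (Finset.mem_filter.1 χ.2).2.1⟩, fun z hz =>
          (hm ⟨z, hz⟩).symm ▸ (Finset.mem_filter.1 χ.2).2.2 ⟨z, hz⟩⟩
        left_inv := fun _ => rfl
        right_inv := fun _ => rfl }
  have hX : ∀ g ∈ X, g ^ 2 ^ j = 1 := fun g hg => by
    obtain ⟨k, rfl⟩ : g ∈ zpowers u := (Finset.mem_filter.1 hg).2 ▸ mem_zpowers g
    beta_reduce
    rw [← zpow_natCast, ← zpow_mul, mul_comm, zpow_mul, zpow_natCast, hu, one_zpow]
  have h1 : ∀ χ ∈ A, (X.card : ℝ) ≤ ∑ g ∈ X, ‖χ.1 g‖ ^ 2 := fun χ hχ => by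
    have h2 := OddOrderCharacters.PF13.SumBound.card_le_sum_sq (Finset.univ : Finset Unit) (fun _ => χ.1)
      (fun _ _ => OddOrderCharacters.VChar.gen_of_char (isIrr_isCharacter χ.2)) X (fun g hg k hk => by
        rw [Finset.mem_filter] at hg ⊢
        refine ⟨Finset.mem_univ _, hg.2 ▸ le_antisymm (zpowers_le.2 (pow_mem (mem_zpowers g) k)) (zpowers_le.2 ?_)⟩
        exact mem_zpowers_pow_iff.2 (hk.coprime_dvd_right (orderOf_dvd_natCard g))) fun g hg => ⟨(), Finset.mem_univ _,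
      fun e => (Finset.mem_filter.1 hχ).2.1.not_two_dvd_nat (S4558.result 2 χ.1 (isIrr_isCharacter χ.2) g
        (((Nat.dvd_prime_pow Nat.prime_two).1 (orderOf_dvd_of_pow_eq_one (hX g hg))).imp fun _ h => h.2) e)⟩
    simpa using h2
  have h2 : ∀ g ∈ X, (Nat.card Z : ℝ) * ∑ χ ∈ A, ‖χ.1 g‖ ^ 2 ≤ Nat.card (centralizer ({u} : Set G)) := fun g hg => by
    have h3 := col_over hZ m g g
    rw [Finset.sum_eq_single 1 (fun z _ hz => ?_) (fun h => absurd (Finset.mem_univ _) h), map_one, inv_one, Units.val_one,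
      one_mul, OneMemClass.coe_one, mul_one, if_pos (IsConj.refl g), ← centralizer_closure, ← zpowers_eq_closure,
      (Finset.mem_filter.1 hg).2, zpowers_eq_closure, centralizer_closure] at h3
    · simp_rw [Complex.mul_conj, Complex.normSq_eq_norm_sq] at h3
      have h4 : (Nat.card Z : ℝ) * ∑ χ : IrrCharacter G with ∀ z : Z, χ.1 z = (m z : ℂ) * χ.1 1, ‖χ.1 g‖ ^ 2 =
          Nat.card (centralizer ({u} : Set G)) := by exact_mod_cast h3
      rw [← h4]
      exact mul_le_mul_of_nonneg_left (Finset.sum_le_sum_of_subset_of_nonneg (fun χ hχ => Finset.mem_filter.2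
        ⟨Finset.mem_univ _, (Finset.mem_filter.1 hχ).2.2⟩) fun _ _ _ => by positivity) (by positivity)
    · rw [if_neg fun e => hz ?_, mul_zero]
      obtain ⟨c, hc⟩ := isConj_iff.1 e
      have h4 := hX g hg
      nth_rewrite 1 [← hc] at h4
      rw [conj_pow, conj_eq_one_iff, (show Commute g z from mem_center_iff.1 (hZ z.2) g).mul_pow, hX g hg, one_mul] at h4
      exact orderOf_eq_one_iff.1 (Nat.eq_one_of_dvd_coprimes ((Nat.coprime_two_right.2 ho).pow_right j)
        (orderOf_dvd_natCard z) (orderOf_dvd_of_pow_eq_one (Subtype.ext h4)))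
  have h3 : (X.card : ℝ) * (Nat.card Z * A.card) ≤ X.card * Nat.card (centralizer ({u} : Set G)) := by
    have h4 := Finset.sum_le_sum h2
    rw [← Finset.mul_sum, Finset.sum_comm, Finset.sum_const, nsmul_eq_mul] at h4
    have h5 := Finset.sum_le_sum h1
    rw [Finset.sum_const, nsmul_eq_mul] at h5
    calc _ = (Nat.card Z : ℝ) * (A.card * X.card) := by ring
      _ ≤ _ := (mul_le_mul_of_nonneg_left h5 (by positivity)).trans h4
  rw [hA]
  exact_mod_cast le_of_mul_le_mul_left h3 (Nat.cast_pos.2 (Finset.card_pos.2 ⟨u, Finset.mem_filter.2 ⟨Finset.mem_univ _, rfl⟩⟩))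

theorem k0_le_cent [Finite G] {u : G} {j : ℕ} (hu : u ^ 2 ^ j = 1) : k0 G ≤ Nat.card (centralizer ({u} : Set G)) := by
  have h := kk_le_cent (Z := ⊥) bot_le (by rw [card_bot]; exact odd_one) hu fun _ => 1
  rwa [card_bot, one_mul, kk_bot _ rfl, k0_congr topEquiv] at h

/-- the column bound for a central extension -/
theorem kk_le_cent' [Finite G] (φ : G →* S) (hφ : Function.Surjective φ) (hZ : φ.ker ≤ center G)
    (ho : Odd (Nat.card φ.ker)) {u : S} {j : ℕ} (hu : u ^ 2 ^ j = 1) (l : G → ℂ) :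
    kk ⊤ φ.ker l ≤ Nat.card (centralizer ({u} : Set S)) := by
  have := two_prime
  have : Finite S := Finite.of_surjective φ hφ
  obtain ⟨T, hT⟩ := exists_sylow_mem ⟨j, hu⟩
  obtain ⟨Q, rfl⟩ := Sylow.mapSurjective_surjective hφ 2 T
  obtain ⟨v, hv, rfl⟩ := hT
  obtain ⟨k, hk⟩ := Q.isPGroup' ⟨v, hv⟩
  refine Nat.le_of_mul_le_mul_left ((kk_le_cent hZ ho (congrArg Subtype.val hk) l).trans ?_) Nat.card_pos
  have h1 : centralizer ({v} : Set G) ≤ (centralizer ({φ v} : Set S)).comap φ := fun x hx => by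
    rw [mem_comap, mem_centralizer_singleton_iff, ← map_mul, ← map_mul, mem_centralizer_singleton_iff.1 hx]
  refine (card_le_of_le h1).trans (le_of_eq ?_)
  refine Nat.eq_of_mul_eq_mul_right (Nat.pos_of_ne_zero (FiniteIndex.index_ne_zero (H := centralizer ({φ v} : Set S)))) ?_
  rw [mul_assoc, card_mul_index]
  nth_rewrite 1 [← index_comap_of_surjective _ hφ]
  rw [card_mul_index, ← φ.ker.card_mul_index, index_ker, MonoidHom.range_eq_top.2 hφ, card_top]

end Cfsg.Agent.MK.T
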