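import Cfsg.Agent.MK.T.D
import Cfsg.Agent.CharactersDeep.Extraspecial
import Cfsg.Agent.Blocks.LocalRing
import Cfsg.Agent.Blocks.ExistsModular
import Cfsg.Agent.Blocks.CentralizerSum
import Cfsg.Agent.H700.PrinCrit
import Cfsg.Agent.S0920
import Cfsg.Agent.S0953

/-!
# MK, tools for the small rows: blocks (helper11)

If all `2`-blocks with defect group isomorphic to `P` have the same number of characters of height zero (`Ht`), then
the relative McKay equality holds for odd central subgroups: `kk_of_ht`.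
-/

set_option autoImplicit false

namespace Cfsg.Agent.MK.T

open Cfsg Subgroup Cfsg.Agent.Characters Cfsg.Agent.Characters.Core Cfsg.Agent.Blocks.Basic

/-- every `2`-block with a defect group isomorphic to `Q` has `c` characters of height zero -/
def Ht (Q : Type) [Group Q] (c : ℕ) : Prop :=
  ∀ (G : Type) [Group G] [Finite G] (M : Ideal AlgInt), IsPModular 2 M → ∀ B : Set (IrrCharacter G), IsPBlock M B →
    ∀ D : Subgroup G, IsDefectGroup 2 M B D → Nonempty (D ≃* Q) →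
      Nat.card {χ : IrrCharacter G // χ ∈ B ∧ blockHeight 2 B (χ : G → ℂ) = 0} = c

theorem Ht.congr {Q Q' : Type} [Group Q] [Group Q'] {c : ℕ} (h : Ht Q c) (e : Q' ≃* Q) : Ht Q' c :=
  fun G _ _ M hM B hB D hD he => h G M hM B hB D hD (he.map (·.trans e))

variable {G : Type} [Group G]

/-- the blocks with defect group `P` over `l` -/
def Bl (M : Ideal AlgInt) (P Z : Subgroup G) (l : G → ℂ) (B : Set (IrrCharacter G)) : Prop :=
  IsPBlock M B ∧ IsDefectGroup 2 M B P ∧ ∀ χ ∈ B, ∀ z ∈ Z, χ.1 z = l z * χ.1 1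

variable [Finite G] {M : Ideal AlgInt}

omit [Finite G] in
theorem root_eq (hM : IsPModular 2 M) {m : ℕ} (hm : Odd m) {a b : ℂ} (ha : a ^ m = 1) (hb : b ^ m = 1)
    (h : MemLocalIdeal M (a - b)) : a = b := by
  have := two_prime
  obtain ⟨k, rfl⟩ := hm
  have h0 : b ^ (2 * k) * b = 1 := by rw [← pow_succ, hb]
  have h1 := H700.PrinCrit.eq_one_of_sub_mem hM (z := b ^ (2 * k) * a) (m := 2 * k + 1) (by omega)
    (by rw [mul_pow, ha, mul_one, ← pow_mul, mul_comm, pow_mul, hb, one_pow]) (by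
      rw [← h0, ← mul_sub]
      exact Blocks.LocalRing.memLocalIdeal_mul_left hM (Blocks.LocalRing.memLocalRing_of_isIntegral hM
        ((IsIntegral.of_pow (Nat.succ_pos _) (hb ▸ isIntegral_one)).pow _)) h)
  exact mul_left_cancel₀ (left_ne_zero_of_mul_eq_one h0) (h1.trans h0.symm)

omit [Finite G] in
theorem cen_pow {χ : G → ℂ} (hχ : IsIrrCharacter G χ) {z : G} (hz : z ∈ center G) {m : ℕ} (hm : z ^ m = 1) :
    (χ z / χ 1) ^ m = 1 := by
  obtain ⟨c, hc, -⟩ := CharactersDeep.Extraspecial.exists_central_hom hχ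
  have h1 := hc 1 ⟨z, hz⟩
  rw [one_mul] at h1
  rw [h1, mul_div_cancel_left₀ _ (isIrr_apply_one_ne_zero hχ), ← Units.val_pow_eq_pow_val, ← map_pow,
    show (⟨z, hz⟩ : center G) ^ m = 1 from Subtype.ext hm, map_one, Units.val_one]

omit [Finite G] in
theorem centralChar_cen (χ : G → ℂ) {z : G} (hz : z ∈ center G) : centralChar χ z = χ z / χ 1 := by
  rw [centralChar_def, centralizer_eq_top_iff_subset.2 (Set.singleton_subset_iff.2 hz), index_top, Nat.cast_one, one_mul]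

omit [Finite G] in
theorem pow_card_mem {Z : Subgroup G} {z : G} (hz : z ∈ Z) : z ^ Nat.card Z = 1 :=
  congrArg Subtype.val (pow_card_eq_one' (x := (⟨z, hz⟩ : Z)))

theorem cen_ind (hM : IsPModular 2 M) {H : Subgroup G} {b : Set (IrrCharacter H)} {B : Set (IrrCharacter G)}
    (h : IsInducedBlock M H b B) {ξ : IrrCharacter H} (hξ : ξ ∈ b) {χ : IrrCharacter G} (hχ : χ ∈ B) {z : H}
    (hz : (z : G) ∈ center G) {m : ℕ} (hm : Odd m) (h1 : (z : G) ^ m = 1) : ξ.1 z / ξ.1 1 = χ.1 z / χ.1 1 := by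
  have h2 := h.2.2 ξ hξ χ hχ z
  have h3 : {y : H | IsConj (z : G) (y : G)} = {z} := Set.ext fun y => ⟨fun e => by
    obtain ⟨c, hc⟩ := isConj_iff.1 e
    rw [mem_center_iff.1 hz, mul_inv_cancel_right] at hc
    exact (Subtype.ext hc).symm, fun e => by
    rw [Set.mem_singleton_iff.1 e]
    exact IsConj.refl _⟩
  rw [inducedCentralChar_def, h3, finsum_mem_singleton, centralChar_cen _ hz] at h2
  exact root_eq hM hm (cen_pow ξ.2 (mem_center_iff.2 fun y => Subtype.ext (mem_center_iff.1 hz y)) (Subtype.ext h1))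
    (cen_pow χ.2 hz h1) h2

theorem height_iff {B : Set (IrrCharacter G)} (h : ∃ χ ∈ B, ¬ 2 ∣ charDegree (χ : G → ℂ)) (ψ : IrrCharacter G) :
    blockHeight 2 B (ψ : G → ℂ) = 0 ↔ Odd (charDegree (ψ : G → ℂ)) := by
  obtain ⟨χ, h1, h2⟩ := h
  have h3 : 0 ∈ (fun ψ : IrrCharacter G => (charDegree (ψ : G → ℂ)).factorization 2) '' B :=
    ⟨χ, h1, Nat.factorization_eq_zero_of_not_dvd h2⟩
  rw [blockHeight_def, Nat.sInf_eq_zero.2 (Or.inl h3), Nat.sub_zero,
    Nat.factorization_eq_zero_iff, ← Nat.not_even_iff_odd, even_iff_two_dvd]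
  exact ⟨fun e => e.elim (absurd Nat.prime_two) (·.elim id (absurd · (charDegree_pos ψ.2).ne')), fun e => Or.inr (Or.inl e)⟩

theorem kk_eq_mul (hM : IsPModular 2 M) {Z : Subgroup G} (hZ : Z ≤ center G) (ho : Odd (Nat.card Z)) (P : Sylow 2 G)
    {c : ℕ} (h : Ht (P : Subgroup G) c) (l : G → ℂ) : kk ⊤ Z l = Nat.card {B // Bl M P Z l B} * c := by
  have := two_prime
  have := Blocks.LocalRing.isPrime hM
  have := finite_irr (G := G)
  have := Fintype.ofFinite {B // Bl M P Z l B}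
  let f : {χ : G → ℂ // OI G χ ∧ ∀ z ∈ Z, χ z = l z * χ 1} → {B // Bl M P Z l B} := fun χ =>
    ⟨blockOf M χ.1, isPBlock_blockOf ⟨χ.1, χ.2.1.1⟩, S0953.isDefectGroup_of_degree hM P (isPBlock_blockOf ⟨χ.1, χ.2.1.1⟩)
      (mem_blockOf_self ⟨χ.1, χ.2.1.1⟩) χ.2.1.2.not_two_dvd_nat, fun ψ hψ z hz => by
      have h1 : MemLocalIdeal M _ := hψ z
      rw [centralChar_cen _ (hZ hz), centralChar_cen _ (hZ hz)] at h1
      have h2 := root_eq hM ho (cen_pow χ.2.1.1 (hZ hz) (pow_card_mem hz)) (cen_pow ψ.2 (hZ hz) (pow_card_mem hz)) h1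
      rw [χ.2.2 z hz, mul_div_cancel_right₀ _ χ.2.1.one_ne] at h2
      rw [h2, div_mul_cancel₀ _ (isIrr_apply_one_ne_zero ψ.2)]⟩
  have := finite_oi (G := G) fun χ => ∀ z ∈ Z, χ z = l z * χ 1
  rw [kk_top, ← Nat.card_congr (Equiv.sigmaFiberEquiv f), Nat.card_sigma, Finset.sum_const_nat (m := c), Finset.card_univ,
    Nat.card_eq_fintype_card]
  rintro ⟨B, h1, h2, h3⟩ -
  have h4 := height_iff (S0953.exists_degree_of_isDefectGroup hM P h1 h2)
  rw [← h G M hM B h1 P h2 ⟨MulEquiv.refl _⟩]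
  exact Nat.card_congr
    { toFun := fun χ => ⟨⟨χ.1.1, χ.1.2.1.1⟩, (show blockOf M χ.1.1 = B from congrArg Subtype.val χ.2).subset
        (mem_blockOf_self ⟨χ.1.1, χ.1.2.1.1⟩), (h4 _).2 χ.1.2.1.2⟩
      invFun := fun χ => ⟨⟨χ.1.1, ⟨χ.1.2, (h4 _).1 χ.2.2⟩, h3 _ χ.2.1⟩, Subtype.ext (isPBlock_eq_blockOf h1 χ.2.1).symm⟩
      left_inv := fun _ => rfl
      right_inv := fun _ => rfl }

/-- Brauer's first main theorem over a central character -/
theorem card_bl (hM : IsPModular 2 M) {Z : Subgroup G} (hZ : Z ≤ center G) (ho : Odd (Nat.card Z)) {D : Subgroup G}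
    (hD : IsPGroup 2 D) (l : G → ℂ) :
    Nat.card {b // Bl M (D.subgroupOf (normalizer (D : Set G))) (Z.subgroupOf (normalizer (D : Set G))) (fun k => l k) b} =
      Nat.card {B // Bl M D Z l B} := by
  have := two_prime
  have := Blocks.LocalRing.isPrime hM
  obtain ⟨h1, h2⟩ := S0920.result 2 M hM D hD
  choose f f1 f2 f3 using h1
  refine Nat.card_eq_of_bijective (fun b => ⟨f b.1 b.2.1 b.2.2.1, f1 _ _ _, f2 _ _ _, fun χ hχ z hz => ?_⟩)
    ⟨fun a b e => ?_, fun B => ?_⟩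
  · obtain ⟨ξ, hξ⟩ := isPBlock_nonempty b.2.1
    have h3 := cen_ind hM (f3 _ _ _) hξ hχ (z := ⟨z, center_le_normalizer _ (hZ hz)⟩) (hZ hz) ho (pow_card_mem hz)
    rw [b.2.2.2 ξ hξ _ hz, mul_div_cancel_right₀ _ (isIrr_apply_one_ne_zero ξ.2)] at h3
    rw [show l z = χ.1 z / χ.1 1 from h3, div_mul_cancel₀ _ (isIrr_apply_one_ne_zero χ.2)]
  · refine Subtype.ext ((h2 _ (f1 _ a.2.1 a.2.2.1) (f2 _ _ _)).unique ⟨a.2.1, a.2.2.1, f3 _ _ _⟩ ⟨b.2.1, b.2.2.1, ?_⟩)
    exact (show f b.1 b.2.1 b.2.2.1 = f a.1 a.2.1 a.2.2.1 from congrArg Subtype.val e.symm) ▸ f3 _ _ _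
  · obtain ⟨b, ⟨h3, h4, h5⟩, -⟩ := h2 B.1 B.2.1 B.2.2.1
    refine ⟨⟨b, h3, h4, fun ξ hξ z hz => ?_⟩, Subtype.ext (Blocks.CentralizerSum.inducedBlock_unique (f3 _ _ _) h5)⟩
    obtain ⟨χ, hχ⟩ := isPBlock_nonempty B.2.1
    have h6 := cen_ind hM h5 hξ hχ (hZ hz) ho (pow_card_mem hz)
    rw [B.2.2.2 χ hχ z hz, mul_div_cancel_right₀ _ (isIrr_apply_one_ne_zero χ.2)] at h6
    beta_reduce
    rw [← h6, div_mul_cancel₀ _ (isIrr_apply_one_ne_zero ξ.2)]

/-- **the relative McKay equality from the heights** -/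
theorem kk_of_ht {Z : Subgroup G} (hZ : Z ≤ center G) (ho : Odd (Nat.card Z)) (P : Sylow 2 G) {c : ℕ}
    (h : Ht (P : Subgroup G) c) (l : G → ℂ) : kk ⊤ Z l = kk (normalizer ((P : Subgroup G) : Set G)) Z l := by
  have := two_prime
  obtain ⟨M, hM⟩ := Blocks.ExistsModular.exists_isPModular Nat.prime_two
  rw [kk_eq_mul hM hZ ho P h, ← kk_top_sub, kk_eq_mul hM (fun z hz => mem_center_iff.2 fun y =>
    Subtype.ext (mem_center_iff.1 (hZ hz) y)) (by
      rwa [Nat.card_congr (subgroupOfEquivOfLe (hZ.trans (center_le_normalizer _))).toEquiv])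
    (P.subtype le_normalizer) (h.congr (subgroupOfEquivOfLe le_normalizer)), ← card_bl hM hZ ho P.isPGroup']
  rfl

theorem mck_of_ht {Z : Subgroup G} (hZ : Z ≤ center G) (ho : Odd (Nat.card Z)) (P : Sylow 2 G) {c : ℕ}
    (h : Ht (P : Subgroup G) c) : McK G Z := fun l Q =>
  have := two_prime
  kk_of_ht hZ ho Q (h.congr (Q.equiv P)) l

theorem m0_of_ht (P : Sylow 2 G) {c : ℕ} (h : Ht (P : Subgroup G) c) : M0 G := fun Q => by
  have h1 := mck_of_ht (Z := ⊥) bot_le (by rw [card_bot]; exact odd_one) P h (fun _ => 1) Q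
  rwa [kk_bot _ rfl, kk_bot _ rfl, k0_congr topEquiv] at h1

theorem sm_of_ht (ho : Odd (Nat.card (center G)))
    (hi : ∀ α : MulAut G, (∀ z ∈ center G, α z = z) → ∃ x, α = MulAut.conj x) (P : Sylow 2 G) {c : ℕ}
    (h : Ht (P : Subgroup G) c) : Sm G :=
  sm_of_inn hi P fun l _ => kk_of_ht le_rfl ho P h l

end Cfsg.Agent.MK.T
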