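import Cfsg.Agent.MK.T.F
import Cfsg.Agent.H639.Klein
import Cfsg.Agent.H658.CyclicRoot
import Cfsg.Agent.Transfer.TausskyTwoGroup
import Cfsg.Agent.S0908
import Cfsg.Agent.S4399
import Cfsg.Agent.S4528
import Cfsg.Agent.S4529
import Cfsg.Agent.S4530
import Cfsg.Agent.S4710

/-!
# MK, tools for the small rows: Sylow subgroups of maximal class (helper11)

`Ht Q 4` for dihedral, semidihedral, quaternion and Klein four groups; `ht_four`, `ht_dvd`, `ht_a2`, `ht_eight`, `mck_eight`.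
-/

set_option autoImplicit false

namespace Cfsg.Agent.MK.T

open Cfsg Subgroup

variable {Q : Type} [Group Q]

theorem ht_dihedral {k : ℕ} (e : Q ≃* DihedralGroup (2 ^ (k + 2))) : Ht Q 4 := fun _ _ _ M hM B hB D hD he =>
  (S4528.result M hM B hB D hD (k + 3) (by omega) (he.map (·.trans e))).2.2.2.1

theorem ht_quat {k : ℕ} (e : Q ≃* QuaternionGroup (2 ^ (k + 1))) : Ht Q 4 := fun _ _ _ M hM B hB D hD he =>
  (S4530.result M hM B hB D hD (k + 3) (by omega) (he.map (·.trans e))).2.2.2.1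

theorem ht_qd (h : IsQuasiDihedral Q) : Ht Q 4 := fun _ _ _ M hM B hB D hD ⟨e⟩ => by
  obtain ⟨n, h1, h2, x, y, h3, h4, h5⟩ := h
  have h6 := (Nat.card_congr e.toEquiv).trans h2
  exact (S4529.result M hM B hB D hD (n + 1) (by omega) h6 ⟨n, h1, h6, e.symm x, e.symm y,
    (e.symm.orderOf_eq x).trans h3, (e.symm.orderOf_eq y).trans h4, by
      rw [← map_inv, ← map_mul, ← map_mul, h5, map_pow]⟩).2.2.2.2.2.1

theorem ht_klein (h : IsKleinFour Q) : Ht Q 4 := fun G _ _ M hM B hB D hD ⟨e⟩ => by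
  classical
  have := Fintype.ofFinite G
  have := H639.isPrime_of hM
  have := two_prime
  have hV : IsKleinFour D := ⟨(Nat.card_congr e.toEquiv).trans h.card_four, (Monoid.exponent_eq_of_mulEquiv e).trans
    h.exponent_two⟩
  obtain ⟨c, hc⟩ := H658.exists_root_centralizer hM hV.isMulCommutative hD hB
  obtain ⟨c', ζ, hF⟩ := H639.klein_full hM hD hV hc
  have h1 := S0908.result 2 M hM B hB D hD
  rw [hV.card_four] at h1
  have h2 : blockDefect 2 B = 2 := (Nat.pow_right_injective le_rfl (h1.symm.trans (by norm_num : 4 = 2 ^ 2)) :)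
  rw [← (H639.klein_main hF hV).2.1]
  exact Nat.card_congr (Equiv.subtypeEquivRight fun χ => and_iff_left_of_imp fun hχ =>
    Nat.le_zero.1 (((S4710.result 2 M hM B hB 2 h2).2 χ hχ).2 le_rfl))

/-- **commutator quotient a Klein four group** -/
theorem ht_four [Finite Q] (h2 : IsPGroup 2 Q) (h4 : ab Q = 4) (he : ∀ x : Q, x ^ 2 ∈ _root_.commutator Q) : Ht Q 4 := by
  rcases S4399.result h2 h4 (fun x => by
    obtain ⟨x, rfl⟩ := QuotientGroup.mk_surjective x
    exact (QuotientGroup.eq_one_iff (x ^ 2)).2 (he x)) with h | ⟨k, ⟨e⟩⟩ | ⟨k, h, x, y, h5, h6, h7⟩ | ⟨k, ⟨e⟩⟩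
  · have h5 : _root_.commutator Q = ⊥ := by
      have h6 := (_root_.commutator Q).card_mul_index
      rw [show (_root_.commutator Q).index = 4 from h4, h] at h6
      exact card_eq_one.1 (by omega)
    have : Nontrivial Q := Finite.one_lt_card_iff_nontrivial.1 (by omega)
    exact ht_klein ⟨h, (Monoid.exponent_eq_prime_iff Nat.prime_two).2 fun x hx =>
      have := two_prime
      orderOf_eq_prime (mem_bot.1 (h5 ▸ he x)) hx⟩
  · exact ht_dihedral e
  · exact ht_qd ⟨k + 3, by omega, h, x, y, h5, h6, h7⟩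
  · exact ht_quat e

theorem ht_dvd [Finite Q] (h2 : IsPGroup 2 Q) (h4 : ab Q ∣ 4) (hc : ¬ IsCyclic Q) : Ht Q 4 := by
  have := two_prime
  have h1 : ¬ IsCyclic (Q ⧸ _root_.commutator Q) := fun h => by
    have := h2.isNilpotent
    exact hc (isCyclic_of_injective (QuotientGroup.mk' _) ((MonoidHom.ker_eq_bot_iff _).1 ((QuotientGroup.ker_mk' _).trans
      (Transfer.TausskyTwoGroup.commutator_eq_bot_of_isCyclic_quotient h))))
  have h3 : Nat.card (Q ⧸ _root_.commutator Q) = 4 := by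
    obtain ⟨k, hk, h5⟩ := (Nat.dvd_prime_pow Nat.prime_two (m := 2)).1 h4
    change Nat.card (Q ⧸ _root_.commutator Q) = _ at h5
    interval_cases k
    · exact absurd (isCyclic_of_card_dvd_prime (p := 2) (h5 ▸ one_dvd 2)) h1
    · exact absurd (isCyclic_of_prime_card (p := 2) h5) h1
    · exact h5
  refine ht_four h2 h3 fun x => (QuotientGroup.eq_one_iff _).1 ?_
  obtain ⟨k, hk, h5⟩ := (Nat.dvd_prime_pow Nat.prime_two (m := 2)).1
    (show _ ∣ 4 from h3 ▸ orderOf_dvd_natCard (x : Q ⧸ _root_.commutator Q))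
  rw [QuotientGroup.mk_pow, ← orderOf_dvd_iff_pow_eq_one, h5]
  interval_cases k
  · exact one_dvd _
  · exact dvd_rfl
  · exact absurd (isCyclic_of_orderOf_eq_card _ (h5.trans h3.symm)) h1

variable {G : Type} [Group G] [Finite G]

theorem ht_a2 (P : Sylow 2 G) (h4 : a2 G ∣ 4) (hc : ¬ IsCyclic (P : Subgroup G)) : Ht (P : Subgroup G) 4 :=
  have := two_prime
  ht_dvd P.isPGroup' (ab_congr (P.equiv default) ▸ h4) hc

/-- order divisible by `8` -/
theorem ht_eight (P : Sylow 2 G) (h4 : a2 G ∣ 4) (h8 : 8 ∣ Nat.card G) : Ht (P : Subgroup G) 4 :=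
  ht_a2 P h4 fun h => by
    have := two_prime
    have h1 : a2 G = Nat.card (P : Subgroup G) :=
      (ab_congr ((default : Sylow 2 G).equiv P)).trans (ab_comm h.isMulCommutative.is_comm.comm)
    have h2 : 2 ^ 3 ∣ Nat.card (P : Subgroup G) := by
      rw [P.card_eq_multiplicity]
      exact pow_dvd_pow 2 ((Nat.prime_two.pow_dvd_iff_le_factorization Nat.card_pos.ne').1 h8)
    exact absurd (h2.trans (h1 ▸ h4)) (by norm_num)

/-- a `2`-element whose centraliser has order not divisible by `8` -/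
theorem a2_dvd_four {u : G} (hu : ∃ k : ℕ, u ^ 2 ^ k = 1) (h : ¬ 8 ∣ Nat.card (centralizer ({u} : Set G))) : a2 G ∣ 4 := by
  obtain ⟨k, hk⟩ := a2_pow (G := G)
  have h1 := a2_dvd_cent hu
  rw [hk] at h1 ⊢
  exact pow_dvd_pow 2 (show k ≤ 2 from not_lt.1 fun e => h ((pow_dvd_pow 2 e).trans h1))

theorem mck_eight {Z : Subgroup G} (hZ : Z ≤ center G) (ho : Odd (Nat.card Z)) (h4 : a2 G ∣ 4) (h8 : 8 ∣ Nat.card G) :
    McK G Z := mck_of_ht hZ ho default (ht_eight _ h4 h8)

theorem m0_eight (h4 : a2 G ∣ 4) (h8 : 8 ∣ Nat.card G) : M0 G := m0_of_ht default (ht_eight _ h4 h8)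

end Cfsg.Agent.MK.T
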